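import Cfsg.Agent.Lib.Spor.McLRec.Model
import Cfsg.Agent.Lib.Spor.Cos.McLOut.Rep

/-! The automorphisms of the graph: at most twice the order of the McLaughlin group, which is inside. -/

set_option autoImplicit false
set_option maxRecDepth 100000

open Cfsg.Agent.Spor.Cos Finset

namespace Cfsg.Agent.Spor.McLRec

/-- The automorphisms. -/
def AutG : Subgroup (Equiv.Perm V) where
  carrier := {π | ∀ x y, Adj (π x) (π y) ↔ Adj x y}
  one_mem' := fun x y => Iff.rfl
  mul_mem' := fun {a b} ha hb x y => (ha (b x) (b y)).trans (hb x y)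
  inv_mem' := fun {a} ha x y => by
    have h := ha (a⁻¹ x) (a⁻¹ y)
    rw [show a (a⁻¹ x) = x from a.apply_symm_apply x, show a (a⁻¹ y) = y from a.apply_symm_apply y] at h
    exact h.symm

/-- The automorphisms fixing a list of vertices. -/
def fixF (F : List ℕ) : Subgroup (Equiv.Perm V) where
  carrier := {π | π ∈ AutG ∧ ∀ x : V, (x : ℕ) ∈ F → π x = x}
  one_mem' := ⟨AutG.one_mem, fun _ _ => rfl⟩
  mul_mem' := fun {a b} ha hb => ⟨AutG.mul_mem ha.1 hb.1, fun x hx => by
    show a (b x) = x
    rw [hb.2 x hx, ha.2 x hx]⟩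
  inv_mem' := fun {a} ha => ⟨AutG.inv_mem ha.1, fun x hx => by
    conv_lhs => rw [← ha.2 x hx]
    exact a.symm_apply_apply x⟩

theorem samePat_image {F : List ℕ} {π : Equiv.Perm V} (hπ : π ∈ fixF F) (hF : ∀ f ∈ F, f < 275) {b : V}
    (hb : (b : ℕ) ∉ F) : samePat F b (π b) = true := by
  simp only [samePat, List.all_eq_true, Bool.and_eq_true, Bool.not_eq_true']
  intro f hf
  let x : V := ⟨f, hF f hf⟩
  have hx : π x = x := hπ.2 x hf
  refine ⟨?_, ?_⟩
  · cases e : Nat.beq (π b : ℕ) f
    · rfl
    · have h1 : π b = π x := (Fin.ext (Nat.eq_of_beq_eq_true e)).trans hx.symm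
      have h2 : b = x := π.injective h1
      exact absurd hf (by rw [show f = (b : ℕ) from (congrArg Fin.val h2).symm]; exact hb)
  · have h := hπ.1 x b
    rw [hx] at h
    have h' : adjB f (π b : ℕ) = true ↔ adjB f (b : ℕ) = true := h
    cases e : adjB f (b : ℕ)
    · cases e' : adjB f (π b : ℕ)
      · rfl
      · rw [e] at h'; exact absurd (h'.1 e') Bool.false_ne_true
    · exact h'.2 e

theorem card_fix_le : ∀ (L : List (ℕ × ℕ)) (F : List ℕ), chkBase L F = true → (∀ f ∈ F, f < 275) → (∀ e ∈ L, 1 ≤ e.2) →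
    (∀ G : List ℕ, G = (L.map fun e => e.1).reverse ++ F → Nat.card (fixF G) ≤ 1) →
    Nat.card (fixF F) ≤ (L.map fun e => e.2).prod
  | [], F, _, _, _, hend => by simpa using hend F (by simp)
  | (b, k) :: L, F, h, hF, hpos, hend => by
    classical
    have h' : (Nat.blt b 275 && Nat.ble ((List.range 275).filter fun l => samePat F b l).length k &&
        chkBase L (b :: F)) = true := h
    simp only [Bool.and_eq_true] at h'
    obtain ⟨⟨hb, hk⟩, hrest⟩ := h'
    have hb' : b < 275 := Nat.le_of_ble_eq_true hb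
    have ih := card_fix_le L (b :: F) hrest (fun f hf => (List.mem_cons.1 hf).elim (· ▸ hb') (hF f))
      (fun e he => hpos e (List.mem_cons_of_mem _ he)) (fun G hG => hend G (by rw [hG]; simp))
    let x : V := ⟨b, hb'⟩
    have hst := Nat.card_congr (MulAction.orbitProdStabilizerEquivGroup (fixF F) x)
    rw [Nat.card_prod] at hst
    have hs : Nat.card (MulAction.stabilizer (fixF F) x) ≤ Nat.card (fixF (b :: F)) :=
      Nat.card_le_card_of_injective (fun π => (⟨π.1.1, π.1.2.1, fun y hy => by
        rcases List.mem_cons.1 hy with e | e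
        · rw [show y = x from Fin.ext e]; exact π.2
        · exact π.1.2.2 y e⟩ : fixF (b :: F))) fun π ρ e =>
        Subtype.ext (Subtype.ext (congrArg (fun z : fixF (b :: F) => (z : Equiv.Perm V)) e))
    rw [List.map_cons, List.prod_cons, ← hst]
    refine Nat.mul_le_mul ?_ (hs.trans ih)
    by_cases hbF : b ∈ F
    · have : Subsingleton (MulAction.orbit (fixF F) x) := ⟨by
        rintro ⟨_, π, rfl⟩ ⟨_, ρ, rfl⟩
        exact Subtype.ext ((π.2.2 x hbF).trans (ρ.2.2 x hbF).symm)⟩
      exact (Finite.card_le_one_iff_subsingleton.2 this).trans (hpos (b, k) (List.mem_cons_self ..))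
    · let T : Finset V := univ.filter fun l => samePat F b l = true
      have hsub : MulAction.orbit (fixF F) x ⊆ (T : Set V) := by
        rintro _ ⟨π, rfl⟩
        simp only [T, coe_filter, mem_univ, true_and]
        exact samePat_image π.2 hF hbF
      have h1 : #T ≤ ((List.range 275).filter fun l => samePat F b l).toFinset.card :=
        card_le_card_of_injOn (fun l => (l : ℕ)) (fun l hl => by
          simp only [T, coe_filter, mem_univ, true_and] at hl
          simp only [coe_sort_coe, List.coe_toFinset, Set.mem_ofPred_eq, List.mem_filter, List.mem_range]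
          exact ⟨l.2, hl⟩) fun l _ m _ e => Fin.ext e
      rw [Nat.card_coe_set_eq]
      refine (Set.ncard_le_ncard hsub).trans ?_
      rw [Set.ncard_coe_finset]
      exact (h1.trans (List.toFinset_card_le _)).trans (Nat.le_of_ble_eq_true hk)

theorem rigid_sound : ∀ (L : List (ℕ × List ℕ)) (F : List ℕ), chkRigid L F = true → (∀ f ∈ F, f < 275) →
    (∀ e ∈ L, e.1 < 275) → ∀ π ∈ fixF F, π = 1
  | [], F, h, _, _, π, hπ => by
    have h' : ((List.range 275).all fun k => F.any fun f => Nat.beq f k) = true := h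
    exact Equiv.ext fun x => hπ.2 x (all_beq (List.all_eq_true.1 h' x (List.mem_range.2 x.2)))
  | (v, W) :: L, F, h, hF, hL, π, hπ => by
    have h' : ((W.all fun f => F.any fun f' => Nat.beq f f') &&
        ((List.range 275).all fun l => Nat.beq l v || !samePat W v l) && chkRigid L (v :: F)) = true := h
    simp only [Bool.and_eq_true, List.all_eq_true, List.mem_range, Bool.or_eq_true, Bool.not_eq_true'] at h'
    obtain ⟨⟨hW, hu⟩, hrest⟩ := h'
    refine rigid_sound L (v :: F) hrest
      (fun f hf => (List.mem_cons.1 hf).elim (fun e => e ▸ hL (v, W) (List.mem_cons_self ..)) (hF f))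
      (fun e he => hL e (List.mem_cons_of_mem _ he)) π ⟨hπ.1, fun x hx => ?_⟩
    rcases List.mem_cons.1 hx with e | e
    · have hWF : ∀ f ∈ W, f ∈ F := fun f hf => by
        obtain ⟨f', hf', e'⟩ := List.any_eq_true.1 (hW f hf)
        exact (Nat.eq_of_beq_eq_true e') ▸ hf'
      by_cases hxW : (x : ℕ) ∈ W
      · exact hπ.2 x (hWF _ hxW)
      · have hp := samePat_image (F := W) (π := π) ⟨hπ.1, fun y hy => hπ.2 y (hWF _ hy)⟩
          (fun f hf => hF f (hWF f hf)) hxW
        rcases hu (π x) (π x).2 with h1 | h1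
        · exact Fin.ext ((Nat.eq_of_beq_eq_true h1).trans e.symm)
        · rw [e] at hp; rw [hp] at h1; simp at h1
    · exact hπ.2 x e

theorem card_aut_le : Nat.card AutG ≤ 2 * 898128000 := by
  have e : AutG = fixF [] := by
    ext π
    exact ⟨fun h => ⟨h, by simp⟩, And.left⟩
  rw [e, ← base_prod]
  refine card_fix_le autBase [] base_ok (by simp) (by decide +kernel) fun G hG => ?_
  rw [List.append_nil] at hG
  subst hG
  have : fixF ((autBase.map fun e => e.1).reverse) = ⊥ := (Subgroup.eq_bot_iff_forall _).2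
    fun π hπ => rigid_sound _ _ rigid_ok (by decide +kernel) (by decide +kernel) π hπ
  rw [this, Subgroup.card_bot]

/-- The McLaughlin group among them. -/
noncomputable def piV : McLOut.H →* Equiv.Perm V := McLOut.pi

theorem piV_le : piV.range ≤ AutG := by
  rw [MonoidHom.range_eq_map, ← McLOut.g_gen, MonoidHom.map_closure, Subgroup.closure_le]
  rintro _ ⟨_, ⟨s, hs, rfl⟩, rfl⟩
  have hf : ∀ x y : V, Adj x y → Adj (piV (McLOut.g s) x) (piV (McLOut.g s) y) := by
    intro x y h
    obtain ⟨h1, h2, h3⟩ := go_adj [s] (by simpa using hs) x y x.2 y.2 h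
    have e : ∀ z : V, (piV (McLOut.g s) z : ℕ) = actM.go [s] z := fun z => by
      have := McLOut.homA.apply_ev [s] (by intro t ht; rw [List.mem_singleton.1 ht]; exact hs) z
      rw [show ev McLOut.g [s] = McLOut.g s from mul_one _] at this
      exact this
    show adjB (piV (McLOut.g s) x : ℕ) (piV (McLOut.g s) y : ℕ) = true
    rw [e, e]
    exact h3
  refine fun x y => ⟨fun h => ?_, hf x y⟩
  have := hf _ _ h
  have e : ∀ z : V, piV (McLOut.g s) (piV (McLOut.g s) z) = z := fun z => by
    rw [← Equiv.Perm.mul_apply, ← map_mul, McLOut.g_sq, map_one, Equiv.Perm.one_apply]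
  rwa [e, e] at this

theorem card_piV : Nat.card piV.range = 898128000 :=
  (Nat.card_congr (MonoidHom.ofInjective (f := piV) McLOut.pi_injective).toEquiv).symm.trans McLOut.card_H

theorem index_piV : (piV.range.subgroupOf AutG).index ≤ 2 := by
  have h := Subgroup.card_mul_index (piV.range.subgroupOf AutG)
  rw [Nat.card_congr (Subgroup.subgroupOfEquivOfLe piV_le).toEquiv, card_piV] at h
  have := card_aut_le
  nlinarith

end Cfsg.Agent.Spor.McLRec
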