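import Cfsg.Agent.Lib.Fus.McLStab.Data
import Cfsg.Agent.Lib.Spor.Cos.McLOut.ActData
import Cfsg.Agent.Lib.Spor.UFourThree.SignData
import Cfsg.Agent.Lib.Spor.UFourThree.Tail3
import Cfsg.Agent.Lib.Spor.McLRec.Data

/-! The finite checks. -/

set_option autoImplicit false
set_option maxRecDepth 100000
set_option maxHeartbeats 4000000
set_option Elab.async false

open Cfsg.Agent.Spor.Cos

namespace Cfsg.Agent.Spor.McLRec

/-- A bit. -/
noncomputable def bit (m p : ℕ) : Bool := Nat.beq ((m >>> p) % 2) 1

/-- Adjacency of the graph. -/
noncomputable def adjB (k l : ℕ) : Bool := bit (nbrT.at k) l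

/-- The vertex of a line. -/
noncomputable def emb (p : ℕ) : ℕ := Fus.McLStab.embT.at p

/-- Adjacency of lines. -/
noncomputable def adjLB (p q : ℕ) : Bool := adjB (emb p) (emb q)

/-- The lines. -/
noncomputable abbrev actL : Act := UFourThree.actL

/-- The McLaughlin action. -/
noncomputable abbrev actM : Act := McLOut.actA

/-- Generators carry edges to edges. -/
noncomputable def chkInvariant (k : ℕ) : Bool :=
  (List.range 5).all fun s => force (nbrT.at k) fun a => force (nbrT.at (actM.im k s)) fun b =>
    (List.range 275).all fun l => !bit a l || bit b (actM.im l s)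

/-- A lifted generator is as tabled. -/
noncomputable def chkLift (k : ℕ) : Bool :=
  (List.range 3).all fun s => Nat.beq (liftA.im k s) (actM.go (Fus.McLStab.imgW.getD s []) k)

/-- The lift on a line. -/
noncomputable def chkEmb (p : ℕ) : Bool :=
  (List.range 3).all fun s => Nat.beq (liftA.im (emb p) s) (emb (actL.im p s))

/-- Kinds and vertices agree. -/
noncomputable def chkKind (k : ℕ) : Bool :=
  force (kindT.at k) fun t => (Nat.blt t 112 && Nat.beq (emb t) k) || (Nat.beq t 112 && Nat.beq k 4) ||
    (Nat.blt 112 t && Nat.blt t 275 && Nat.beq (farT.at (t - 113)) k)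

/-- Lines and their vertices. -/
noncomputable def chkEmbKind (p : ℕ) : Bool :=
  Nat.blt (emb p) 275 && Nat.beq (kindT.at (emb p)) p && adjB 4 (emb p)

/-- A far vertex and its set. -/
noncomputable def chkFar (j : ℕ) : Bool :=
  force (farT.at j) fun v => Nat.blt v 275 && Nat.beq (kindT.at v) (113 + j) && !adjB 4 v &&
    force (nbrT.at v) fun a => force (hemiT.at j) fun m =>
      (List.range 112).all fun p => bif bit m p then bit a (emb p) else !bit a (emb p)

/-- Sets of far vertices differ. -/
noncomputable def chkHemiNe (i : ℕ) : Bool :=
  force (hemiT.at i) fun m => (List.range 162).all fun j => Nat.beq i j || !Nat.beq m (hemiT.at j)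

/-- Tree of an orbit: each new point is an image of an earlier one. -/
noncomputable def connB (A : Act) (W : List (List ℕ)) (T : List (ℕ × ℕ × ℕ)) : List ℕ → Bool :=
  List.rec (motive := fun _ => List ℕ → Bool) (fun _ => true)
    (fun e _ r seen => Nat.blt e.2.2 W.length && seen.any (fun x => Nat.beq x e.2.1) &&
      Nat.beq (A.go (W.getD e.2.2 []) e.2.1) e.1 && r (e.1 :: seen)) T

/-- The points of a tree. -/
noncomputable def ptsOf (root : ℕ) (T : List (ℕ × ℕ × ℕ)) : List ℕ := root :: T.map fun e => e.1

/-- The single generators. -/
noncomputable def genWords : List (List ℕ) := [[0], [1], [2]]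

/-- The base point of lines. -/
def z0 : ℕ := 36

/-- The orbits of the three-group and of the stabiliser of the base line. -/
noncomputable def chkSub : Bool :=
  Act.lettersOk 3 UFourThree.tab3.ews && actL.chkFix UFourThree.tab3.ews z0 &&
    connB actL UFourThree.tab3.ews uTree3 [uRoot3] && connB actL UFourThree.tab3.ews uTree27 [uRoot27] &&
    connB actL UFourThree.tab3.ews uTree81 [uRoot81] &&
    Nat.beq (ptsOf uRoot3 uTree3).length 3 && Nat.beq (ptsOf uRoot27 uTree27).length 27 &&
    Nat.beq (ptsOf uRoot81 uTree81).length 81 &&
    Act.lettersOk 3 stW && actL.chkFix stW z0 && connB actL stW sTree30 [sRoot30] && connB actL stW sTree81 [sRoot81] &&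
    Nat.beq (ptsOf sRoot30 sTree30).length 30 && Nat.beq (ptsOf sRoot81 sTree81).length 81 &&
    (ptsOf sRoot30 sTree30).all (fun q => adjLB z0 q) && (ptsOf sRoot81 sTree81).all (fun q => !adjLB z0 q) &&
    (List.range 112).all fun q => Nat.beq q z0 || (ptsOf sRoot30 sTree30).any (fun x => Nat.beq x q) ||
      (ptsOf sRoot81 sTree81).any (fun x => Nat.beq x q)

/-- The classes of the three-group cover the lines. -/
noncomputable def chkUCover : Bool :=
  (List.range 112).all fun q => Nat.beq q z0 || (ptsOf uRoot3 uTree3).any (fun x => Nat.beq x q) ||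
    (ptsOf uRoot27 uTree27).any (fun x => Nat.beq x q) || (ptsOf uRoot81 uTree81).any (fun x => Nat.beq x q)

/-- The clique fixed by the three-group moves to more than 112 places. -/
noncomputable def chkMove : Bool :=
  Nat.beq moveW.length 113 && Act.lettersOk 3 moveW &&
    (baseClique.all fun x => Nat.blt x 112 && (Nat.beq x z0 || (ptsOf uRoot3 uTree3).any fun y => Nat.beq y x)) &&
    ((z0 :: ptsOf uRoot3 uTree3).all fun x => baseClique.any fun y => Nat.beq y x) &&
    (List.range 113).all fun i => (List.range 113).all fun j => Nat.beq i j ||
      baseClique.any fun x => force (actL.go (moveW.getD i []) x) fun q =>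
        baseClique.all fun y => !Nat.beq (actL.go (moveW.getD j []) y) q

/-- The orbits among far vertices. -/
noncomputable def chkFarSub : Bool :=
  force (farT.at hemiBase) fun f0 =>
    connB liftA genWords farTree [f0] && Nat.beq (ptsOf f0 farTree).length 162 &&
    ((List.range 162).all fun j => (ptsOf f0 farTree).any fun x => Nat.beq x (farT.at j)) &&
    Act.lettersOk 3 sfW && liftA.chkFix sfW f0 && connB liftA sfW fTree56 [fRoot56] && connB liftA sfW fTree105 [fRoot105] &&
    Nat.beq (ptsOf fRoot56 fTree56).length 56 && Nat.beq (ptsOf fRoot105 fTree105).length 105 &&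
    (ptsOf fRoot56 fTree56).all (fun q => adjB f0 q) && (ptsOf fRoot105 fTree105).all (fun q => !adjB f0 q) &&
    (List.range 162).all fun j => force (farT.at j) fun v => Nat.beq v f0 ||
      (ptsOf fRoot56 fTree56).any (fun x => Nat.beq x v) || (ptsOf fRoot105 fTree105).any (fun x => Nat.beq x v)

/-- The cliques. -/
noncomputable def chkClique (l : List ℕ) : Bool :=
  Nat.beq l.length 4 && l.all fun a => Nat.blt a 112 && l.all fun b => Nat.beq a b || adjLB a b

/-- More than two points of a clique are chosen or excluded. -/
noncomputable def badB (I O : ℕ) (l : List ℕ) : Bool :=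
  Nat.blt 2 (l.filter fun p => bit I p).length || Nat.blt 2 (l.filter fun p => bit O p).length

/-- Search over the orbits of the element of order seven. -/
noncomputable def searchB : List (List ℕ) → ℕ → ℕ → Bool :=
  fun os => List.rec (motive := fun _ => ℕ → ℕ → Bool)
    (fun I O => (cliques.any fun l => badB I O l) || solL.any fun s => Nat.beq s I)
    (fun o _ r I O => (cliques.any fun l => badB I O l) ||
      (r (o.foldl (fun m p => m ||| 2 ^ p) I) O && r I (o.foldl (fun m p => m ||| 2 ^ p) O))) os

/-- An orbit of the element of order seven. -/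
noncomputable def chkUOrb : List ℕ → Bool
  | [a, b, c, d, e, f, g] =>
    Nat.beq (actL.go uW a) b && Nat.beq (actL.go uW b) c && Nat.beq (actL.go uW c) d && Nat.beq (actL.go uW d) e &&
      Nat.beq (actL.go uW e) f && Nat.beq (actL.go uW f) g && Nat.beq (actL.go uW g) a && !Nat.beq a b
  | _ => false

/-- The orbits cover. -/
noncomputable def chkUOrbs : Bool :=
  uW.all (fun s => Nat.blt s 3) && uOrbs.all chkUOrb &&
    (List.range 112).all fun q => uOrbs.any fun o => o.any fun x => Nat.beq x q

/-- A symmetry. -/
noncomputable def chkTau (i : ℕ) : Bool :=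
  (fun t : Tab × Tab =>
    ((List.range 112).all fun p => force (t.1.at p) fun q => force (t.2.at p) fun q' =>
      Nat.blt q 112 && Nat.blt q' 112 && Nat.beq (t.1.at q') p && Nat.beq (t.2.at q) p &&
      bif bit (hemiT.at hemiBase) p then bit (solL.getD i 0) q else !bit (solL.getD i 0) q) &&
    (Act.lettersOk 3 (conjFwd.getD i []) && Act.lettersOk 3 (conjBwd.getD i [])) &&
    (List.range 112).all fun p => (List.range 3).all fun s =>
      Nat.beq (actL.go ((conjFwd.getD i []).getD s []) p) (t.1.at (actL.im (t.2.at p) s)) &&
      Nat.beq (actL.go ((conjBwd.getD i []).getD s []) p) (t.2.at (actL.im (t.1.at p) s)))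
    (tauL.getD i (tauT0, tauI0))

/-- Same pattern over a list. -/
noncomputable def samePat (F : List ℕ) (b l : ℕ) : Bool :=
  F.all fun f => !Nat.beq l f && (bif adjB f b then adjB f l else !adjB f l)

/-- Bounds for the orbits along a base. -/
noncomputable def chkBase : List (ℕ × ℕ) → List ℕ → Bool :=
  fun L => List.rec (motive := fun _ => List ℕ → Bool) (fun _ => true)
    (fun e _ r F => Nat.blt e.1 275 && Nat.ble ((List.range 275).filter fun l => samePat F e.1 l).length e.2 &&
      r (e.1 :: F)) L

/-- Each further vertex is the only one of its pattern. -/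
noncomputable def chkRigid : List (ℕ × List ℕ) → List ℕ → Bool :=
  fun L => List.rec (motive := fun _ => List ℕ → Bool)
    (fun F => (List.range 275).all fun k => F.any fun f => Nat.beq f k)
    (fun e _ r F => (e.2.all fun f => F.any fun f' => Nat.beq f f') &&
      ((List.range 275).all fun l => Nat.beq l e.1 || !samePat e.2 e.1 l) && r (e.1 :: F)) L

/-- The remaining facts on a vertex. -/
noncomputable def chkVertex (k : ℕ) : Bool :=
  liftA.chkInv k && force (nbrT.at k) fun a => !bit a k && (List.range 275).all fun l => !bit a l || adjB l k

/-- The base vertex, the lines as one orbit, and the sets. -/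
noncomputable def chkMore : Bool :=
  (List.range 3).all (fun s => Nat.beq (liftA.im 4 s) 4) && connB actL genWords lineTree [z0] &&
    ((List.range 112).all fun q => (ptsOf z0 lineTree).any fun x => Nat.beq x q) &&
    ((List.range 162).all fun j => Nat.blt (hemiT.at j) (2 ^ 112)) && Nat.blt hemiBase 162

theorem vertex_ok : ∀ k < 275, chkVertex k = true := by decide +kernel

theorem more_ok : chkMore = true := by decide +kernel

theorem invariant_ok : ∀ k < 275, chkInvariant k = true :=
  of_blocks (size := 35) (b := 8) (by decide) (by decide) fun j hj => by interval_cases j <;> decide +kernel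

theorem lift_ok : ∀ k < 275, chkLift k = true :=
  of_blocks (size := 69) (b := 4) (by decide) (by decide) fun j hj => by interval_cases j <;> decide +kernel

theorem emb_ok : ∀ p < 112, chkEmb p = true := by decide +kernel

theorem kind_ok : ∀ k < 275, chkKind k = true := by decide +kernel

theorem embKind_ok : ∀ p < 112, chkEmbKind p = true := by decide +kernel

theorem far_ok : ∀ j < 162, chkFar j = true := by decide +kernel

theorem hemiNe_ok : ∀ i < 162, chkHemiNe i = true := by decide +kernel

theorem sub_ok : chkSub = true := by decide +kernel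

theorem uCover_ok : chkUCover = true := by decide +kernel

theorem move_ok : chkMove = true := by decide +kernel

theorem farSub_ok : chkFarSub = true := by decide +kernel

theorem clique_ok : cliques.all chkClique = true := by decide +kernel

theorem uOrbs_ok : chkUOrbs = true := by decide +kernel

theorem search_ok : searchB uOrbs 0 0 = true := by decide +kernel

theorem tau_ok : ∀ i < 4, chkTau i = true := fun i hi => by interval_cases i <;> decide +kernel

theorem base_ok : chkBase autBase [] = true := by decide +kernel

theorem rigid_ok : chkRigid autRigid ((autBase.map fun e => e.1).reverse) = true := by decide +kernel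

theorem base_prod : (autBase.map fun e => e.2).prod = 2 * 898128000 := by decide +kernel

theorem sols_len : solL.length = 4 := by decide +kernel

end Cfsg.Agent.Spor.McLRec
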