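import Cfsg.Agent.Lib.Spor.McLRec.Sub

/-! Sets of lines meeting each clique twice and invariant under an element of order seven; the symmetries. -/

set_option autoImplicit false
set_option maxRecDepth 100000

open Cfsg.Agent.Spor.Cos Cfsg.Agent.Spor.UFourThree

namespace Cfsg.Agent.Spor.McLRec

theorem cliques_nodup : (cliques.all fun l => decide l.Nodup) = true := by decide +kernel

theorem clique_facts {l : List ℕ} (hl : l ∈ cliques) : l.length = 4 ∧ l.Nodup ∧ (∀ p ∈ l, p < 112) ∧
    ∀ p ∈ l, ∀ q ∈ l, p ≠ q → adjLB p q = true := by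
  have h := List.all_eq_true.1 clique_ok l hl
  simp only [chkClique, Bool.and_eq_true, List.all_eq_true, Bool.or_eq_true] at h
  refine ⟨Nat.eq_of_beq_eq_true h.1, of_decide_eq_true (List.all_eq_true.1 cliques_nodup l hl),
    fun p hp => Nat.le_of_ble_eq_true (h.2 p hp).1, fun p hp q hq hne => ?_⟩
  rcases (h.2 p hp).2 q hq with e | e
  · exact absurd (Nat.eq_of_beq_eq_true e) hne
  · exact e

theorem bit_zero (p : ℕ) : bit 0 p = false := by simp [bit_eq]

theorem bit_fold : ∀ (o : List ℕ) (m p : ℕ),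
    bit (o.foldl (fun m p => m ||| 2 ^ p) m) p = true ↔ bit m p = true ∨ p ∈ o
  | [], m, p => by simp
  | a :: o, m, p => by
    rw [List.foldl_cons, bit_fold o, bit_eq (m ||| 2 ^ a), Nat.testBit_lor, Bool.or_eq_true, ← bit_eq, List.mem_cons,
      Nat.testBit_two_pow, decide_eq_true_eq]
    tauto

theorem searchB_sound (S : ℕ → Prop) [DecidablePred S]
    (hline : ∀ l ∈ cliques, (l.filter fun p => decide (S p)).length = 2) :
    ∀ (os : List (List ℕ)) (I O : ℕ), (∀ o ∈ os, ∀ p ∈ o, ∀ q ∈ o, S p → S q) → searchB os I O = true →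
      (∀ p, bit I p = true → S p) → (∀ p, bit O p = true → ¬ S p) →
      (∀ p, p < 112 → (∀ o ∈ os, p ∉ o) → bit I p = true ∨ bit O p = true) →
      ∃ s ∈ solL, ∀ p < 112, (S p ↔ bit s p = true) := by
  have notbad : ∀ {I O : ℕ}, (∀ p, bit I p = true → S p) → (∀ p, bit O p = true → ¬ S p) →
      (cliques.any fun l => badB I O l) = false := by
    intro I O hI hO
    rw [List.any_eq_false]
    intro l hl hbad
    have h2 := hline l hl
    obtain ⟨h4, -, -, -⟩ := clique_facts hl
    have hneg : (l.filter fun p => !decide (S p)).length = 2 := by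
      have := List.length_eq_length_filter_add (l := l) (fun p => decide (S p))
      omega
    simp only [badB, Bool.or_eq_true, Nat.blt_eq] at hbad
    rcases hbad with hb | hb
    · have hm := List.countP_mono_left (l := l) (p := fun p => bit I p) (q := fun p => decide (S p))
        fun p _ hp => decide_eq_true (hI p hp)
      rw [List.countP_eq_length_filter, List.countP_eq_length_filter] at hm
      omega
    · have hm := List.countP_mono_left (l := l) (p := fun p => bit O p) (q := fun p => !decide (S p))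
        fun p _ hp => by simp [hO p hp]
      rw [List.countP_eq_length_filter, List.countP_eq_length_filter] at hm
      omega
  intro os
  induction os with
  | nil =>
    intro I O _ h hI hO hcov
    have h' : ((cliques.any fun l => badB I O l) || solL.any fun s => Nat.beq s I) = true := h
    rw [notbad hI hO, Bool.false_or, List.any_eq_true] at h'
    obtain ⟨s, hs, e⟩ := h'
    refine ⟨s, hs, fun p hp => ?_⟩
    rw [Nat.eq_of_beq_eq_true e]
    rcases hcov p hp (by simp) with h1 | h1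
    · exact iff_of_true (hI p h1) h1
    · exact ⟨fun hS => absurd hS (hO p h1), hI p⟩
  | cons o os ih =>
    intro I O horb h hI hO hcov
    have h' : ((cliques.any fun l => badB I O l) ||
        (searchB os (o.foldl (fun m p => m ||| 2 ^ p) I) O && searchB os I (o.foldl (fun m p => m ||| 2 ^ p) O))) = true := h
    rw [notbad hI hO, Bool.false_or, Bool.and_eq_true] at h'
    have horb' : ∀ o' ∈ os, ∀ p ∈ o', ∀ q ∈ o', S p → S q := fun o' ho' => horb o' (List.mem_cons_of_mem _ ho')
    by_cases hS : ∀ p ∈ o, S p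
    · refine ih _ O horb' h'.1 (fun p hp => ((bit_fold o I p).1 hp).elim (hI p) (hS p)) hO fun p hp hno => ?_
      by_cases hpo : p ∈ o
      · exact Or.inl ((bit_fold o I p).2 (Or.inr hpo))
      · rcases hcov p hp (by simpa [hpo] using hno) with h1 | h1
        · exact Or.inl ((bit_fold o I p).2 (Or.inl h1))
        · exact Or.inr h1
    · refine ih I _ horb' h'.2 hI (fun p hp => ((bit_fold o O p).1 hp).elim (hO p) fun hpo hSp =>
        hS fun q hq => horb o (List.mem_cons_self ..) p hpo q hq hSp) fun p hp hno => ?_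
      by_cases hpo : p ∈ o
      · exact Or.inr ((bit_fold o O p).2 (Or.inr hpo))
      · rcases hcov p hp (by simpa [hpo] using hno) with h1 | h1
        · exact Or.inl h1
        · exact Or.inr ((bit_fold o O p).2 (Or.inl h1))

theorem uW_lt : ∀ s ∈ uW, s < 3 := by decide +kernel

theorem uOrb_facts {o : List ℕ} (ho : o ∈ uOrbs) : ∃ a b, o = [a, b, actL.go uW b, actL.go uW (actL.go uW b),
    actL.go uW (actL.go uW (actL.go uW b)), actL.go uW (actL.go uW (actL.go uW (actL.go uW b))),
    actL.go uW (actL.go uW (actL.go uW (actL.go uW (actL.go uW b))))] ∧ b = actL.go uW a ∧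
    a = actL.go uW (actL.go uW (actL.go uW (actL.go uW (actL.go uW (actL.go uW b))))) ∧ a ≠ b := by
  have h := uOrbs_ok
  simp only [chkUOrbs, Bool.and_eq_true, List.all_eq_true] at h
  have h' := h.1.2 o ho
  match o, h' with
  | [a, b, c, d, e, f, g], h' =>
    simp only [chkUOrb, Bool.and_eq_true, Bool.not_eq_true'] at h'
    obtain ⟨⟨⟨⟨⟨⟨⟨e1, e2⟩, e3⟩, e4⟩, e5⟩, e6⟩, e7⟩, e8⟩ := h'
    refine ⟨a, b, ?_, (Nat.eq_of_beq_eq_true e1).symm, ?_, Nat.ne_of_beq_eq_false e8⟩
    · rw [Nat.eq_of_beq_eq_true e2, Nat.eq_of_beq_eq_true e3, Nat.eq_of_beq_eq_true e4, Nat.eq_of_beq_eq_true e5,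
        Nat.eq_of_beq_eq_true e6]
    · rw [Nat.eq_of_beq_eq_true e2, Nat.eq_of_beq_eq_true e3, Nat.eq_of_beq_eq_true e4, Nat.eq_of_beq_eq_true e5,
        Nat.eq_of_beq_eq_true e6, Nat.eq_of_beq_eq_true e7]

theorem uOrbs_cover (p : Ln) : ∃ o ∈ uOrbs, (p : ℕ) ∈ o := by
  have h := uOrbs_ok
  simp only [chkUOrbs, Bool.and_eq_true, List.all_eq_true, List.mem_range] at h
  obtain ⟨o, ho, h'⟩ := List.any_eq_true.1 (h.2 p p.2)
  exact ⟨o, ho, all_beq h'⟩

theorem orderOf_u : orderOf (ev gT uW) = 7 := by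
  have : Fact (Nat.Prime 7) := ⟨by norm_num⟩
  refine orderOf_eq_prime (theta_injective ?_) fun h1 => ?_
  · rw [map_pow, map_one, theta_ev]
    refine Equiv.ext fun p => Fin.ext ?_
    obtain ⟨o, ho, hp⟩ := uOrbs_cover p
    obtain ⟨a, b, rfl, hb, ha, -⟩ := uOrb_facts ho
    simp only [pow_succ, pow_zero, one_mul, Equiv.Perm.mul_apply, Equiv.Perm.one_apply, Lw_apply uW_lt]
    simp only [List.mem_cons, List.not_mem_nil, or_false] at hp
    rcases hp with e | e | e | e | e | e | e <;> rw [e] <;> simp only [← hb, ← ha]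
  · obtain ⟨o, ho, hp⟩ := uOrbs_cover zF
    obtain ⟨a, b, he, hb, -, hne⟩ := uOrb_facts ho
    have h2 : Lw uW = 1 := by rw [← theta_ev, h1, map_one]
    have hfix : ∀ x, x < 112 → actL.go uW x = x := fun x hx => by
      have := Lw_apply uW_lt ⟨x, hx⟩
      rw [h2] at this
      exact this.symm
    have haLt : a < 112 := by
      have hall : ((uOrbs.all fun o => o.all fun x => Nat.blt x 112)) = true := by decide +kernel
      have h3 := List.all_eq_true.1 hall _ ho
      exact Nat.le_of_ble_eq_true (List.all_eq_true.1 h3 a (by rw [he]; exact List.mem_cons_self ..))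
    exact hne (hb.trans (hfix a haLt)).symm

/-- A symmetry. -/
theorem exists_tau {s : ℕ} (hs : s ∈ solL) : ∃ t : Equiv.Perm Ln,
    (∀ p : Ln, bit s (t p) = true ↔ Hemi jF p) ∧
    (∀ w : List ℕ, (∀ x ∈ w, x < 3) → ∃ v : List ℕ, (∀ x ∈ v, x < 3) ∧ Lw v = t * Lw w * t⁻¹) ∧
    (∀ w : List ℕ, (∀ x ∈ w, x < 3) → ∃ v : List ℕ, (∀ x ∈ v, x < 3) ∧ Lw v = t⁻¹ * Lw w * t) := by
  obtain ⟨i, hi, rfl⟩ := List.getElem_of_mem hs
  have hi4 : i < 4 := sols_len ▸ hi
  have h := tau_ok i hi4
  simp only [chkTau, force_eq, Bool.and_eq_true, List.all_eq_true, List.mem_range] at h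
  obtain ⟨⟨h1, hl1, hl2⟩, h2⟩ := h
  set T := tauL.getD i (tauT0, tauI0) with hT
  let t : Equiv.Perm Ln :=
    { toFun := fun p => ⟨T.1.at p, Nat.le_of_ble_eq_true (h1 p p.2).1.1.1.1⟩
      invFun := fun p => ⟨T.2.at p, Nat.le_of_ble_eq_true (h1 p p.2).1.1.1.2⟩
      left_inv := fun p => Fin.ext (Nat.eq_of_beq_eq_true (h1 p p.2).1.2)
      right_inv := fun p => Fin.ext (Nat.eq_of_beq_eq_true (h1 p p.2).1.1.2) }
  have hlt : ∀ {L : List (List ℕ)}, Act.lettersOk 3 L = true → ∀ k, ∀ x ∈ L.getD k [], x < 3 := fun {L} hL k x hx => by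
    rcases Nat.lt_or_ge k L.length with hk | hk
    · rw [List.getD_eq_getElem _ _ hk] at hx
      exact Act.lt_of_lettersOk hL (List.getElem_mem hk) x hx
    · rw [List.getD_eq_default _ _ hk] at hx; simp at hx
  have key : ∀ (u : Equiv.Perm Ln) (L : List (List ℕ)), Act.lettersOk 3 L = true →
      (∀ s < 3, Lw (L.getD s []) = u * actL.perm s * u⁻¹) →
      ∀ w : List ℕ, (∀ x ∈ w, x < 3) → ∃ v : List ℕ, (∀ x ∈ v, x < 3) ∧ Lw v = u * Lw w * u⁻¹ := by
    intro u L hL hgen w
    induction w with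
    | nil => intro _; exact ⟨[], by simp, by simp [Lw_nil]⟩
    | cons s w ih =>
      intro hw
      obtain ⟨v, hv, e⟩ := ih fun x hx => hw x (List.mem_cons_of_mem _ hx)
      refine ⟨L.getD s [] ++ v, fun x hx => (List.mem_append.1 hx).elim (hlt hL s x) (hv x), ?_⟩
      rw [Lw_append, hgen s (hw s (List.mem_cons_self ..)), e]
      show _ = u * (actL.perm s * Lw w) * u⁻¹
      group
  refine ⟨t, fun p => ?_, key t _ hl1 fun s hs => Equiv.ext fun p => Fin.ext ?_, fun w hw => ?_⟩
  · have h' := (h1 p p.2).2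
    show bit solL[i] (T.1.at p) = true ↔ _
    rw [List.getD_eq_getElem _ _ hi] at h'
    unfold Hemi
    show _ ↔ bit (hemiT.at hemiBase) p = true
    cases e : bit (hemiT.at hemiBase) p
    · rw [e, cond_false, Bool.not_eq_true'] at h'
      exact iff_of_false (fun hh => Bool.false_ne_true (h'.symm.trans hh)) Bool.false_ne_true
    · rw [e, cond_true] at h'
      exact iff_of_true h' rfl
  · rw [Lw_apply (hlt hl1 s), Equiv.Perm.mul_apply, Equiv.Perm.mul_apply, Nat.eq_of_beq_eq_true (h2 p p.2 s hs).1]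
    show _ = T.1.at (actL.perm s _ : ℕ)
    rw [actL.perm_apply lineInv hs]
    rfl
  · obtain ⟨v, hv, e⟩ := key t⁻¹ _ hl2 (fun s hs => Equiv.ext fun p => Fin.ext (by
      rw [inv_inv, Lw_apply (hlt hl2 s), Equiv.Perm.mul_apply, Equiv.Perm.mul_apply,
        Nat.eq_of_beq_eq_true (h2 p p.2 s hs).2]
      show _ = T.2.at (actL.perm s _ : ℕ)
      rw [actL.perm_apply lineInv hs]
      rfl)) w hw
    exact ⟨v, hv, by rw [e, inv_inv]⟩

end Cfsg.Agent.Spor.McLRec
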