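import Cfsg.Agent.Lib.Spor.McLRec.Srg
import Cfsg.Agent.Lib.Spor.McLRec.Search
import Cfsg.Agent.Lib.Spor.McLRec.Aut

/-!
A rank three group of degree 275 with point stabiliser `U₄(3)` and suborbits 1, 112, 162 is the McLaughlin group.
-/

set_option autoImplicit false
set_option maxRecDepth 100000
set_option maxHeartbeats 1000000

open Cfsg Cfsg.Agent.Spor.Cos Cfsg.Agent.Spor.UFourThree Finset

namespace Cfsg.Agent.Spor.McLRec

section

variable {Ω : Type*} [Fintype Ω] [DecidableEq Ω] {G : Subgroup (Equiv.Perm Ω)}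

/-- A labelling of the neighbours of `a` by the lines, matching the stabiliser of `a` with the unitary group. -/
structure Label (Γ : SimpleGraph Ω) (G : Subgroup (Equiv.Perm Ω)) (a : Ω) (φ : Ln → Ω) : Prop where
  inj : Function.Injective φ
  nbr : ∀ x, Γ.Adj a x ↔ ∃ p, φ p = x
  fwd : ∀ w : List ℕ, (∀ s ∈ w, s < 3) → ∃ g : G, g • a = a ∧ ∀ p, φ (Lw w p) = g • φ p
  back : ∀ g : G, g • a = a → ∃ w : List ℕ, (∀ s ∈ w, s < 3) ∧ ∀ p, φ (Lw w p) = g • φ p

variable {Γ : SimpleGraph Ω} [DecidableRel Γ.Adj] {a : Ω} {φ : Ln → Ω}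

theorem stW_ok : Act.lettersOk 3 stW = true ∧ actL.chkFix stW z0 = true := by
  have h := sub_ok
  simp only [chkSub, Bool.and_eq_true] at h
  tauto

theorem Label.adj_lines (hL : Label Γ G a φ) (hsrg : Γ.IsSRGWith 275 112 30 56)
    (hinv : ∀ (g : G) (x y : Ω), Γ.Adj (g • x) (g • y) ↔ Γ.Adj x y) (p q : Ln) :
    Γ.Adj (φ p) (φ q) ↔ AdjL p q := by
  classical
  let T : Finset Ln := univ.filter fun r => Γ.Adj (φ zF) (φ r)
  have hc : #T = 30 := by
    have h := srg_common hsrg a (φ zF)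
    have hadj : Γ.Adj a (φ zF) := (hL.nbr _).2 ⟨zF, rfl⟩
    rw [if_neg hadj.ne, if_pos hadj] at h
    rw [← h, ← card_image_of_injective T hL.inj]
    congr 1
    ext x
    simp only [T, mem_image, mem_filter, mem_univ, true_and, hL.nbr x]
    exact ⟨fun ⟨r, hr, e⟩ => ⟨⟨r, e⟩, e ▸ hr⟩, fun ⟨⟨r, e⟩, hx⟩ => ⟨r, e.symm ▸ hx, e⟩⟩
  have hT : ∀ w ∈ stW, ∀ r, r ∈ T ↔ Lw w r ∈ T := by
    intro w hw r
    have hw' := Act.lt_of_lettersOk stW_ok.1 hw
    obtain ⟨g, -, hg⟩ := hL.fwd w hw'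
    have hz : Lw w zF = zF := Fin.ext ((Lw_apply hw' zF).trans
      (Nat.eq_of_beq_eq_true (List.all_eq_true.1 stW_ok.2 w hw)))
    have h1 := hg zF
    rw [hz] at h1
    simp only [T, mem_filter, mem_univ, true_and]
    conv_rhs => rw [hg r, h1]
    exact (hinv g _ _).symm
  have key := nbr_line T hT (by simp [T]) hc
  obtain ⟨w, hw, rfl⟩ := lines_transitive p
  obtain ⟨g, -, hg⟩ := hL.fwd w hw
  obtain ⟨r, rfl⟩ : ∃ r, Lw w r = q := ⟨(Lw w)⁻¹ q, (Lw w).apply_symm_apply q⟩
  rw [hg, hg, hinv, Lw_adj hw, ← key r]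
  simp [T]

theorem Label.two_on_clique (hL : Label Γ G a φ) (hsrg : Γ.IsSRGWith 275 112 30 56)
    (hinv : ∀ (g : G) (x y : Ω), Γ.Adj (g • x) (g • y) ↔ Γ.Adj x y) {c : Ω} (hca : c ≠ a) (hnc : ¬ Γ.Adj a c)
    (S : ℕ → Prop) [DecidablePred S] (hS : ∀ p : Ln, S p ↔ Γ.Adj c (φ p)) {l : List ℕ} (hl : l ∈ cliques) :
    (l.filter fun p => decide (S p)).length = 2 := by
  classical
  obtain ⟨h4, hnd, hlt, hadj⟩ := clique_facts hl
  let F : Finset Ln := univ.filter fun p => (p : ℕ) ∈ l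
  have hF : F.image Fin.val = l.toFinset := by
    ext x
    simp only [F, mem_image, mem_filter, mem_univ, true_and, List.mem_toFinset]
    exact ⟨fun ⟨p, hp, e⟩ => e ▸ hp, fun hx => ⟨⟨x, hlt x hx⟩, hx, rfl⟩⟩
  have hFc : #F = 4 := by
    rw [← card_image_of_injective F Fin.val_injective, hF, List.toFinset_card_of_nodup hnd, h4]
  let K : Finset Ω := insert a (F.image φ)
  have haF : a ∉ F.image φ := fun h => by
    obtain ⟨p, -, e⟩ := mem_image.1 h
    exact Γ.irrefl ((hL.nbr a).2 ⟨p, e⟩)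
  have hK : #K = 5 := by rw [card_insert_of_notMem haF, card_image_of_injective _ hL.inj, hFc]
  have hKadj : ∀ x ∈ K, ∀ y ∈ K, x ≠ y → Γ.Adj x y := by
    intro x hx y hy hne
    simp only [K, mem_insert, mem_image] at hx hy
    rcases hx with rfl | ⟨p, hp, rfl⟩ <;> rcases hy with rfl | ⟨q, hq, rfl⟩
    · exact absurd rfl hne
    · exact (hL.nbr _).2 ⟨q, rfl⟩
    · exact ((hL.nbr _).2 ⟨p, rfl⟩).symm
    · exact (hL.adj_lines hsrg hinv p q).2 (hadj p (mem_filter.1 hp).2 q (mem_filter.1 hq).2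
        fun e => hne (by rw [Fin.ext e]))
  have hcK : c ∉ K := fun h => by
    simp only [K, mem_insert, mem_image] at h
    rcases h with e | ⟨p, -, e⟩
    · exact hca e
    · exact hnc ((hL.nbr c).2 ⟨p, e⟩)
  have h := two_in_clique hsrg K hK hKadj hcK
  rw [filter_insert, if_neg (fun e => hnc e.symm), filter_image, card_image_of_injective _ hL.inj] at h
  rw [← List.toFinset_card_of_nodup (hnd.filter _), ← h, ← card_image_of_injective _ Fin.val_injective]
  congr 1
  ext x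
  simp only [List.mem_toFinset, List.mem_filter, decide_eq_true_eq, F, mem_image, mem_filter, mem_univ, true_and]
  exact ⟨fun ⟨hx, hs⟩ => ⟨⟨x, hlt x hx⟩, ⟨hx, (hS _).1 hs⟩, rfl⟩,
    fun ⟨p, ⟨hp, hc'⟩, e⟩ => e ▸ ⟨hp, (hS p).2 hc'⟩⟩

end

theorem main {Ω : Type*} [Fintype Ω] [DecidableEq Ω] (hΩ : Fintype.card Ω = 275) (G : Subgroup (Equiv.Perm Ω))
    [MulAction.IsPretransitive G Ω] (a : Ω) (ψ : G43 ≃* MulAction.stabilizer G a) (b c : Ω)
    (hb : (MulAction.orbit (MulAction.stabilizer G a) b).ncard = 112)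
    (hc : (MulAction.orbit (MulAction.stabilizer G a) c).ncard = 162) : Cfsg.Spor.IsoMcL G := by
  classical
  have hfin := finite_G43
  obtain ⟨hab, hcases⟩ := orbit_cases hΩ hb hc
  obtain ⟨Γ, _, hsrg, hinv, hnbr⟩ := exists_srg hΩ hb hc
  set H := MulAction.stabilizer G a
  have hnbr' : ∀ x, Γ.Adj a x ↔ x ∈ MulAction.orbit H b := by
    have hsub : (univ.filter fun x => Γ.Adj a x : Finset Ω) ⊆ univ.filter fun x => x ∈ MulAction.orbit H b :=
      fun x hx => mem_filter.2 ⟨mem_univ _, hnbr x (mem_filter.1 hx).2⟩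
    have heq := eq_of_subset_of_card_le hsub (by
      rw [srg_nbrs hsrg, ← hb, ← Set.ncard_coe_finset]
      exact le_of_eq (congrArg Set.ncard (by ext x; simp)))
    intro x
    have := Finset.ext_iff.1 heq x
    simpa using this
  have hcardH : Nat.card H = 3265920 := (Nat.card_congr ψ.toEquiv).symm.trans card_G43
  have horb : ∀ z : Ω, (MulAction.orbit H z).ncard * Nat.card ↥(MulAction.stabilizer H z) = 3265920 := fun z => by
    rw [← hcardH, ← Nat.card_coe_set_eq, ← Nat.card_prod]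
    exact Nat.card_congr (MulAction.orbitProdStabilizerEquivGroup H z)
  -- the lines
  let S : Subgroup G43 := (MulAction.stabilizer H b).comap ψ.toMonoidHom
  have hS : Nat.card S = 29160 := by
    have h1 : Nat.card S = Nat.card ↥(MulAction.stabilizer H b) :=
      Nat.card_congr (ψ.toEquiv.subtypeEquiv fun y => Iff.rfl)
    have h2 := horb b
    rw [hb] at h2
    omega
  obtain ⟨g0, hg0⟩ := exists_conj S hS
  let act : G43 → Ω → Ω := fun y x => ((ψ y : H) : G) • x
  have act_mul : ∀ y y' x, act (y * y') x = act y (act y' x) := fun y y' x => by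
    simp only [act, map_mul, Subgroup.coe_mul, mul_smul]
  have act_a : ∀ y, act y a = a := fun y => (ψ y).2
  have act_one : ∀ x, act 1 x = x := fun x => by simp [act]
  set b' := act g0 b with hb'
  have hStab : ∀ y, act y b' = b' ↔ y ∈ St := by
    intro y
    have h1 : act y b' = b' ↔ g0⁻¹ * y * g0 ∈ S := by
      show _ ↔ act (g0⁻¹ * y * g0) b = b
      rw [hb', act_mul, act_mul]
      constructor
      · intro h; rw [h, ← act_mul, inv_mul_cancel, act_one]
      · intro h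
        have := congrArg (act g0) h
        rwa [← act_mul g0, mul_inv_cancel, act_one] at this
    rw [h1, hg0, show g0 * (g0⁻¹ * y * g0) * g0⁻¹ = y by group]
  choose wp hwp hwp' using lines_transitive
  let φ : Ln → Ω := fun p => act (ev gT (wp p)) b'
  have hkey : ∀ y, φ (theta y zF) = act y b' := by
    intro y
    have hm : y⁻¹ * ev gT (wp (theta y zF)) ∈ St := mem_St.2 (by
      rw [map_mul, map_inv, theta_ev, Equiv.Perm.mul_apply, hwp']
      exact (theta y).symm_apply_apply zF)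
    have := congrArg (act y) ((hStab _).2 hm)
    rwa [← act_mul, mul_inv_cancel_left] at this
  have hequiv : ∀ y p, φ (theta y p) = act y (φ p) := fun y p => by
    show _ = act y (act (ev gT (wp p)) b')
    rw [← act_mul, ← hkey, map_mul, theta_ev, Equiv.Perm.mul_apply, hwp']
  have hL : Label Γ G a φ :=
    { inj := fun p q e => by
        have hm : (ev gT (wp p))⁻¹ * ev gT (wp q) ∈ St := (hStab _).1 (by
          have := congrArg (act (ev gT (wp p))⁻¹) e.symm
          exact (act_mul _ _ b').trans (this.trans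
            ((act_mul _ _ b').symm.trans (by rw [inv_mul_cancel, act_one]))))
        have h2 := mem_St.1 hm
        rw [map_mul, map_inv, theta_ev, theta_ev, Equiv.Perm.mul_apply, hwp'] at h2
        have h3 := congrArg (Lw (wp p)) h2
        rw [hwp', show Lw (wp p) ((Lw (wp p))⁻¹ q) = q from (Lw (wp p)).apply_symm_apply q] at h3
        exact h3.symm
      nbr := fun x => by
        rw [hnbr']
        constructor
        · rintro ⟨h, rfl⟩
          refine ⟨theta (ψ.symm h * g0⁻¹) zF, ?_⟩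
          rw [hkey, hb', ← act_mul, inv_mul_cancel_right]
          show ((ψ (ψ.symm h) : H) : G) • b = (h : G) • b
          rw [ψ.apply_symm_apply]
        · rintro ⟨p, rfl⟩
          exact ⟨ψ (ev gT (wp p) * g0), act_mul _ _ _⟩
      fwd := fun w _ => ⟨(ψ (ev gT w) : H), act_a _, fun p => by rw [← theta_ev, hequiv]⟩
      back := fun g hg => by
        obtain ⟨w, hw, e⟩ := exists_word (ψ.symm ⟨g, hg⟩)
        refine ⟨w, hw, fun p => ?_⟩
        rw [← theta_ev, e, hequiv]
        show ((ψ (ψ.symm ⟨g, hg⟩) : H) : G) • φ p = g • φ p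
        rw [ψ.apply_symm_apply] }
  -- a far point fixed by the element of order seven
  have hca : c ≠ a ∧ ¬ Γ.Adj a c := by
    refine ⟨fun e => ?_, fun h => ?_⟩
    · rw [e] at hc
      have : MulAction.orbit H a = {a} := by
        ext y
        simp only [MulAction.mem_orbit_iff, Set.mem_singleton_iff]
        exact ⟨fun ⟨g, hg⟩ => hg ▸ g.2, fun e' => ⟨1, by rw [e', one_smul]⟩⟩
      rw [this, Set.ncard_singleton] at hc
      omega
    · have := MulAction.orbit_eq_iff.2 ((hnbr' c).1 h)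
      rw [this, hb] at hc
      omega
  have : Fact (Nat.Prime 7) := ⟨by norm_num⟩
  obtain ⟨h7, hh7⟩ := exists_prime_orderOf_dvd_card' 7 (G := MulAction.stabilizer H c) (by
    have h2 := horb c
    rw [hc] at h2
    exact ⟨2880, by omega⟩)
  set y7 := ψ.symm (h7 : H) with hy7
  have hy7o : orderOf y7 = 7 := by rw [hy7, MulEquiv.orderOf_eq, Subgroup.orderOf_coe, hh7]
  have hy7c : act y7 c = c := by
    show ((ψ (ψ.symm (h7 : H)) : H) : G) • c = c
    rw [ψ.apply_symm_apply]
    exact h7.2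
  have hsyl : ∀ y : G43, orderOf y = 7 → Nat.card (Subgroup.zpowers y) = 7 ^ (Nat.card G43).factorization 7 := by
    intro y hy
    rw [Nat.card_zpowers, hy, card_G43, show 3265920 = 7 ^ 1 * 466560 by norm_num,
      Nat.factorization_mul (by norm_num) (by norm_num), Finsupp.add_apply,
      Nat.Prime.factorization_pow (by norm_num : Nat.Prime 7),
      Nat.factorization_eq_zero_of_not_dvd (show ¬ 7 ∣ 466560 by norm_num)]
    simp
  obtain ⟨k, hk⟩ := MulAction.exists_smul_eq G43 (Sylow.ofCard _ (hsyl _ hy7o)) (Sylow.ofCard _ (hsyl _ orderOf_u))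
  set c1 := act k c with hc1
  have hc1u : act (ev gT uW) c1 = c1 := by
    have hm : ev gT uW ∈ ((k • Sylow.ofCard _ (hsyl _ hy7o) : Sylow 7 G43) : Subgroup G43) := by
      rw [hk]; exact Subgroup.mem_zpowers _
    have hm' : ev gT uW ∈ (Subgroup.zpowers y7).map (MulAut.conj k).toMonoidHom := hm
    obtain ⟨x, hx, hxe⟩ := hm'
    have hxc : act x c = c := by
      have hle : Subgroup.zpowers y7 ≤ (MulAction.stabilizer H c).comap ψ.toMonoidHom :=
        Subgroup.zpowers_le.2 hy7c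
      exact hle hx
    have e : k * x * k⁻¹ = ev gT uW := hxe
    rw [← e, hc1, act_mul, act_mul, ← act_mul k⁻¹, inv_mul_cancel, act_one, hxc]
  have hc1a : c1 ≠ a ∧ ¬ Γ.Adj a c1 := by
    refine ⟨fun e => hca.1 ?_, fun h => hca.2 ?_⟩
    · have := congrArg (act k⁻¹) e
      rwa [hc1, ← act_mul, inv_mul_cancel, act_one, act_a] at this
    · rw [hc1, ← act_a k] at h
      exact (hinv _ _ _).1 h
  let Sc : ℕ → Prop := fun n => ∃ hn : n < 112, Γ.Adj c1 (φ ⟨n, hn⟩)
  have hSc : ∀ p : Ln, Sc p ↔ Γ.Adj c1 (φ p) := fun p => ⟨fun ⟨_, h⟩ => h, fun h => ⟨p.2, h⟩⟩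
  have hgo : ∀ n, Sc n → Sc (actL.go uW n) := by
    rintro n ⟨hn, h⟩
    rw [← Lw_apply uW_lt ⟨n, hn⟩, hSc, ← theta_ev, hequiv, ← hc1u]
    exact (hinv _ _ _).2 h
  have horbS : ∀ o ∈ uOrbs, ∀ p ∈ o, ∀ q ∈ o, Sc p → Sc q := by
    intro o ho p hp q hq hp'
    obtain ⟨x, y, rfl, hxy, hyx, -⟩ := uOrb_facts ho
    simp only [List.mem_cons, List.not_mem_nil, or_false] at hp hq
    have hcyc : Sc p → Sc x := by
      intro h
      rcases hp with rfl | rfl | rfl | rfl | rfl | rfl | rfl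
      · exact h
      all_goals rw [hyx]
      · exact hgo _ (hgo _ (hgo _ (hgo _ (hgo _ (hgo _ h)))))
      · exact hgo _ (hgo _ (hgo _ (hgo _ (hgo _ h))))
      · exact hgo _ (hgo _ (hgo _ (hgo _ h)))
      · exact hgo _ (hgo _ (hgo _ h))
      · exact hgo _ (hgo _ h)
      · exact hgo _ h
    have hx' : Sc x := hcyc hp'
    have hy' : Sc y := hxy ▸ hgo _ hx'
    rcases hq with rfl | rfl | rfl | rfl | rfl | rfl | rfl
    · exact hx'
    · exact hy'
    · exact hgo _ hy'
    · exact hgo _ (hgo _ hy')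
    · exact hgo _ (hgo _ (hgo _ hy'))
    · exact hgo _ (hgo _ (hgo _ (hgo _ hy')))
    · exact hgo _ (hgo _ (hgo _ (hgo _ (hgo _ hy'))))
  obtain ⟨s, hs, hsS⟩ := searchB_sound Sc
    (fun l hl => hL.two_on_clique hsrg hinv hc1a.1 hc1a.2 Sc hSc hl) uOrbs 0 0 horbS search_ok
    (fun p hp => by rw [bit_zero] at hp; simp at hp) (fun p hp => by rw [bit_zero] at hp; simp at hp)
    (fun p hp hno => by
      obtain ⟨o, ho, hpo⟩ := uOrbs_cover ⟨p, hp⟩
      exact absurd hpo (hno o ho))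
  obtain ⟨t, ht, htf, htb⟩ := exists_tau hs
  -- the new labelling
  let φ' : Ln → Ω := fun p => φ (t p)
  have hL' : Label Γ G a φ' :=
    { inj := hL.inj.comp t.injective
      nbr := fun x => (hL.nbr x).trans
        ⟨fun ⟨p, e⟩ => ⟨t⁻¹ p, by show φ (t (t⁻¹ p)) = x; rw [show t (t⁻¹ p) = p from t.apply_symm_apply p, e]⟩,
          fun ⟨p, e⟩ => ⟨t p, e⟩⟩
      fwd := fun w hw => by
        obtain ⟨v, hv, e⟩ := htf w hw
        obtain ⟨g, hga, hg⟩ := hL.fwd v hv
        refine ⟨g, hga, fun p => ?_⟩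
        have h := hg (t p)
        rwa [e, Equiv.Perm.mul_apply, Equiv.Perm.mul_apply, show t⁻¹ (t p) = p from t.symm_apply_apply p] at h
      back := fun g hg => by
        obtain ⟨w, hw, e⟩ := hL.back g hg
        obtain ⟨v, hv, e'⟩ := htb w hw
        refine ⟨v, hv, fun p => ?_⟩
        show φ (t (Lw v p)) = g • φ (t p)
        rw [← e, e', Equiv.Perm.mul_apply, Equiv.Perm.mul_apply]
        exact congrArg φ (t.apply_symm_apply _) }
  have hbase : ∀ p, Γ.Adj c1 (φ' p) ↔ Hemi jF p := fun p => by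
    rw [← ht p, ← hsS _ (t p).2, hSc]
  -- the far points
  choose wf hwf hwf' using farSub_facts.2.2
  choose gf hgfa hgf using fun j => hL'.fwd (wf j) (hwf j)
  let Φf : Fin 162 → Ω := fun j => gf j • c1
  have hΦfar : ∀ j, Φf j ≠ a ∧ ¬ Γ.Adj a (Φf j) := by
    intro j
    refine ⟨fun e => hc1a.1 ?_, fun h => hc1a.2 ?_⟩
    · exact MulAction.injective (gf j) (e.trans (hgfa j).symm)
    · show Γ.Adj a c1
      rw [← hinv (gf j), hgfa]; exact h
  have hΦhemi : ∀ j q, Γ.Adj (Φf j) (φ' q) ↔ Hemi j q := by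
    intro j q
    obtain ⟨r, rfl⟩ : ∃ r, Lw (wf j) r = q := ⟨(Lw (wf j))⁻¹ q, (Lw (wf j)).apply_symm_apply q⟩
    rw [hgf, hinv, hbase, hemi_iff, hemi_iff, ← hwf' j, ← Mw_emb (hwf j), Mw_adj (hwf j)]
  have hΦinj : Function.Injective Φf := fun i j e => hemi_injective fun p => by
    rw [← hΦhemi, ← hΦhemi, e]
  let Φ : V → Ω := fun x =>
    if x = v0 then a else if h : ∃ p, x = embF p then φ' h.choose
      else if h' : ∃ j, x = farF j then Φf h'.choose else a
  have hne0 : ∀ p, embF p ≠ v0 := fun p e => adj_irrefl v0 (by have := adj_v0_emb p; rwa [e] at this)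
  have hne0' : ∀ j, farF j ≠ v0 := fun j e => by
    have h := kind_farF j
    rw [e, kind_v0] at h
    omega
  have hnef : ∀ j p, farF j ≠ embF p := fun j p e => not_adj_v0_far j (e ▸ adj_v0_emb p)
  have hΦ0 : Φ v0 = a := by simp [Φ]
  have hΦe : ∀ p, Φ (embF p) = φ' p := fun p => by
    have h : ∃ q, embF p = embF q := ⟨p, rfl⟩
    simp only [Φ, if_neg (hne0 p), dif_pos h]
    rw [← embF_injective h.choose_spec]
  have hΦf : ∀ j, Φ (farF j) = Φf j := fun j => by
    have h : ¬ ∃ q, farF j = embF q := fun ⟨q, e⟩ => hnef j q e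
    have h' : ∃ i, farF j = farF i := ⟨j, rfl⟩
    simp only [Φ, if_neg (hne0' j), dif_neg h, dif_pos h']
    rw [← farF_injective h'.choose_spec]
  have hane : ∀ p, φ' p ≠ a := fun p e => Γ.irrefl ((hL'.nbr a).2 ⟨p, e⟩)
  have hΦinj' : Function.Injective Φ := by
    intro x y e
    rcases vertex_cases x with rfl | ⟨p, rfl⟩ | ⟨i, rfl⟩ <;> rcases vertex_cases y with rfl | ⟨q, rfl⟩ | ⟨j, rfl⟩ <;>
      simp only [hΦ0, hΦe, hΦf] at e
    · rfl
    · exact absurd e.symm (hane q)
    · exact absurd e.symm (hΦfar j).1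
    · exact absurd e (hane p)
    · rw [hL'.inj e]
    · exact absurd ((hL'.nbr _).2 ⟨p, e⟩) (hΦfar j).2
    · exact absurd e (hΦfar i).1
    · exact absurd ((hL'.nbr _).2 ⟨q, e.symm⟩) (hΦfar i).2
    · rw [hΦinj e]
  have hΦbij : Function.Bijective Φ :=
    (Fintype.bijective_iff_injective_and_card Φ).2 ⟨hΦinj', by rw [hΩ]; exact Fintype.card_fin _⟩
  have hfarsurj : ∀ z, z ≠ a → ¬ Γ.Adj a z → ∃ j, Φf j = z := fun z hza hnz => by
    obtain ⟨x, rfl⟩ := hΦbij.2 z
    rcases vertex_cases x with rfl | ⟨p, rfl⟩ | ⟨j, rfl⟩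
    · exact absurd hΦ0 hza
    · exact absurd ((hL'.nbr _).2 ⟨p, (hΦe p).symm⟩) hnz
    · exact ⟨j, (hΦf j).symm⟩
  have hmove : ∀ w : List ℕ, (∀ s ∈ w, s < 3) → ∀ g : G, g • a = a → (∀ p, φ' (Lw w p) = g • φ' p) →
      ∀ x : V, Φ (Mw w x) = g • Φ x := by
    intro w hw g hga hg x
    rcases vertex_cases x with rfl | ⟨p, rfl⟩ | ⟨i, rfl⟩
    · rw [Mw_v0 hw, hΦ0, hga]
    · rw [Mw_emb hw, hΦe, hΦe, hg]
    · rw [hΦf]
      obtain ⟨j, hj⟩ := hfarsurj (g • Φf i) (fun e => (hΦfar i).1 (MulAction.injective g (e.trans hga.symm)))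
        (fun h => (hΦfar i).2 (by rw [← hinv g, hga]; exact h))
      rcases vertex_cases (Mw w (farF i)) with e | ⟨p, e⟩ | ⟨k, e⟩
      · exact absurd ((Mw w).injective (e.trans (Mw_v0 hw).symm)) (hne0' i)
      · obtain ⟨r, rfl⟩ : ∃ r, Lw w r = p := ⟨(Lw w)⁻¹ p, (Lw w).apply_symm_apply p⟩
        rw [← Mw_emb hw] at e
        exact absurd ((Mw w).injective e) (hnef i r)
      · rw [e, hΦf, ← hj]
        congr 1
        refine hemi_injective fun q => ?_
        obtain ⟨r, rfl⟩ : ∃ r, Lw w r = q := ⟨(Lw w)⁻¹ q, (Lw w).apply_symm_apply q⟩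
        rw [← hΦhemi j, hg, hj, hinv, hΦhemi, hemi_iff, hemi_iff, ← e, ← Mw_emb hw, Mw_adj hw]
  have hΦjF : Φf jF = c1 := by
    obtain ⟨j, hj⟩ := hfarsurj c1 hc1a.1 hc1a.2
    have : j = jF := hemi_injective fun p => by rw [← hΦhemi, hj, hbase]
    rw [← this, hj]
  let T : Finset V := univ.filter fun x => (∃ j, x = farF j) ∧ Γ.Adj c1 (Φ x)
  have hTc : #T = 56 := by
    have hall : (univ.filter fun z => Γ.Adj c1 z) =
        (univ.filter fun z => Γ.Adj a z ∧ Γ.Adj c1 z) ∪ T.image Φ := by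
      ext z
      simp only [T, mem_union, mem_filter, mem_univ, true_and, mem_image]
      constructor
      · intro hz
        by_cases hza : Γ.Adj a z
        · exact Or.inl ⟨hza, hz⟩
        · obtain ⟨j, rfl⟩ := hfarsurj z (fun e => hc1a.2 ((e ▸ hz : Γ.Adj c1 a)).symm) hza
          exact Or.inr ⟨farF j, ⟨⟨j, rfl⟩, (hΦf j).symm ▸ hz⟩, hΦf j⟩
      · rintro (⟨-, hz⟩ | ⟨x, ⟨-, hx⟩, rfl⟩)
        · exact hz
        · exact hx
    have h := srg_nbrs hsrg c1
    rw [hall, card_union_of_disjoint, card_image_of_injective _ hΦinj', srg_common hsrg a c1, if_neg hc1a.1.symm,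
      if_neg hc1a.2] at h
    · omega
    · rw [disjoint_left]
      intro z hz hz'
      simp only [T, mem_filter, mem_univ, true_and, mem_image] at hz hz'
      obtain ⟨x, ⟨⟨j, rfl⟩, -⟩, rfl⟩ := hz'
      exact (hΦfar j).2 (hΦf j ▸ hz.1)
  have hTinv : ∀ w ∈ sfW, ∀ x, x ∈ T ↔ Mw w x ∈ T := by
    intro w hw x
    have hw' := Act.lt_of_lettersOk farSub_facts.1 hw
    obtain ⟨g, hga, hg⟩ := hL'.fwd w hw'
    have hgc : g • c1 = c1 := by
      rw [← hΦjF, ← hΦf, ← hmove w hw' g hga hg, farSub_facts.2.1 w hw]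
    simp only [T, mem_filter, mem_univ, true_and]
    rw [hmove w hw' g hga hg]
    constructor
    · rintro ⟨⟨i, rfl⟩, h⟩
      refine ⟨?_, by rw [← hgc, hinv]; exact h⟩
      rcases vertex_cases (Mw w (farF i)) with e | ⟨p, e⟩ | h'
      · exact absurd ((Mw w).injective (e.trans (Mw_v0 hw').symm)) (hne0' i)
      · obtain ⟨r, rfl⟩ : ∃ r, Lw w r = p := ⟨(Lw w)⁻¹ p, (Lw w).apply_symm_apply p⟩
        rw [← Mw_emb hw'] at e
        exact absurd ((Mw w).injective e) (hnef i r)
      · exact h'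
    · rintro ⟨⟨i, hi⟩, h⟩
      refine ⟨?_, by rw [← hinv g, hgc]; exact h⟩
      rcases vertex_cases x with rfl | ⟨p, rfl⟩ | h'
      · rw [Mw_v0 hw'] at hi; exact absurd hi.symm (hne0' i)
      · rw [Mw_emb hw'] at hi; exact absurd hi.symm (hnef i _)
      · exact h'
  have hfarAdj : ∀ j, Γ.Adj c1 (Φf j) ↔ Adj (farF jF) (farF j) := fun j => by
    rw [← nbr_far T (fun x hx => (mem_filter.1 hx).2.1) hTinv
      (by simp [T, hΦf, hΦjF]) hTc j]
    simp [T, hΦf]
  have hAdj : ∀ x y, Γ.Adj (Φ x) (Φ y) ↔ Adj x y := by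
    intro x y
    rcases vertex_cases x with rfl | ⟨p, rfl⟩ | ⟨i, rfl⟩ <;> rcases vertex_cases y with rfl | ⟨q, rfl⟩ | ⟨j, rfl⟩ <;>
      simp only [hΦ0, hΦe, hΦf]
    · exact iff_of_false Γ.irrefl (adj_irrefl _)
    · exact iff_of_true ((hL'.nbr _).2 ⟨q, rfl⟩) (adj_v0_emb q)
    · exact iff_of_false (hΦfar j).2 (not_adj_v0_far j)
    · exact iff_of_true ((hL'.nbr _).2 ⟨p, rfl⟩).symm (adj_symm (adj_v0_emb p))
    · exact hL'.adj_lines hsrg hinv p q
    · rw [Γ.adj_comm, hΦhemi, hemi_iff]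
      exact ⟨adj_symm, adj_symm⟩
    · exact iff_of_false (fun h => (hΦfar i).2 h.symm) (fun h => not_adj_v0_far i (adj_symm h))
    · rw [hΦhemi, hemi_iff]
    · obtain ⟨g, hga, hg⟩ := hL'.fwd (wf i) (hwf i)
      obtain ⟨z, hz⟩ : ∃ z, Mw (wf i) z = farF j := ⟨(Mw (wf i))⁻¹ (farF j), (Mw (wf i)).apply_symm_apply _⟩
      have hzfar : ∃ k, z = farF k := by
        rcases vertex_cases z with rfl | ⟨p, rfl⟩ | h'
        · rw [Mw_v0 (hwf i)] at hz; exact absurd hz.symm (hne0' j)
        · rw [Mw_emb (hwf i)] at hz; exact absurd hz.symm (hnef j _)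
        · exact h'
      obtain ⟨k, rfl⟩ := hzfar
      rw [← hΦf, ← hΦf, ← hz, ← hwf' i, hmove _ (hwf i) g hga hg, hmove _ (hwf i) g hga hg, hinv, Mw_adj (hwf i),
        hΦf, hΦf, hΦjF]
      exact hfarAdj k
  -- inside the automorphism group
  let e : V ≃ Ω := Equiv.ofBijective Φ hΦbij
  let ρ : G →* Equiv.Perm V := e.symm.permCongrHom.toMonoidHom.comp G.subtype
  have hρ : ∀ (g : G) x, Φ (ρ g x) = g • Φ x := fun g x => by
    show e (e.symm ((g : Equiv.Perm Ω) (e x))) = _
    rw [e.apply_symm_apply]; rfl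
  have hρA : ρ.range ≤ AutG := by
    rintro _ ⟨g, rfl⟩
    intro x y
    rw [← hAdj, ← hAdj, hρ, hρ, hinv]
  have hρinj : Function.Injective ρ := fun g h e' => Subtype.ext (Equiv.ext fun z => by
    obtain ⟨x, rfl⟩ := hΦbij.2 z
    have := congrArg (fun π : Equiv.Perm V => Φ (π x)) e'
    simp only [hρ] at this
    exact this)
  have hcardG : Nat.card G = 898128000 := by
    have h1 := Nat.card_congr (MulAction.orbitProdStabilizerEquivGroup G a)
    rw [Nat.card_prod, MulAction.orbit_eq_univ, Nat.card_coe_set_eq, Set.ncard_univ, Nat.card_eq_fintype_card,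
      hΩ, hcardH] at h1
    omega
  -- the preimage of the McLaughlin group
  have hGfin : Finite G := inferInstance
  set N : Subgroup G := piV.range.comap ρ with hN
  have hNidx : N.index ≤ 2 := by
    rw [hN, Subgroup.index_comap]
    refine le_trans ?_ index_piV
    exact Nat.le_of_dvd (Nat.pos_of_ne_zero Subgroup.FiniteIndex.index_ne_zero) (by
      have hn : (piV.range.subgroupOf AutG).Normal := by
        rcases Nat.lt_or_ge (piV.range.subgroupOf AutG).index 2 with h1 | h1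
        · have h0 : (piV.range.subgroupOf AutG).index ≠ 0 := Subgroup.index_ne_zero_of_finite
          have htop : piV.range.subgroupOf AutG = ⊤ := Subgroup.index_eq_one.1 (by omega)
          rw [htop]
          infer_instance
        · exact Subgroup.normal_of_index_eq_two (le_antisymm index_piV h1)
      rw [show piV.range.relIndex ρ.range = (piV.range.subgroupOf AutG).relIndex (ρ.range.subgroupOf AutG) from
        (Subgroup.relIndex_subgroupOf hρA).symm]
      exact Subgroup.relIndex_dvd_index_of_normal _ _)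
  have hNtop : N = ⊤ := by
    have hN0 : N.index ≠ 0 := N.index_ne_zero_of_finite
    rcases Nat.lt_or_ge N.index 2 with h1 | h1
    · exact Subgroup.index_eq_one.1 (by omega)
    exfalso
    have h2 : N.index = 2 := le_antisymm hNidx h1
    have hNn : N.Normal := Subgroup.normal_of_index_eq_two h2
    have hs : IsSimpleGroup H := ψ.symm.isSimpleGroup_congr.2 simple_G43
    have hle : H ≤ N := by
      rcases (hNn.subgroupOf H).eq_bot_or_eq_top with h | h
      · exfalso
        have h3 : N.relIndex H ∣ N.index := Subgroup.relIndex_dvd_index_of_normal _ _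
        rw [Subgroup.relIndex, h, Subgroup.index_bot, hcardH, h2] at h3
        exact absurd (Nat.le_of_dvd (by norm_num) h3) (by norm_num)
      · exact Subgroup.subgroupOf_eq_top.1 h
    have h4 := Subgroup.index_dvd_of_le hle
    have h5 : H.index = 275 := by
      have h6 := H.card_mul_index
      rw [hcardH, hcardG] at h6
      omega
    rw [h2, h5] at h4
    norm_num at h4
  have hle : ρ.range ≤ piV.range := by
    rintro _ ⟨g, rfl⟩
    exact Subgroup.mem_comap.1 (hNtop ▸ Subgroup.mem_top g : g ∈ N)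
  have heq : ρ.range = piV.range := Subgroup.eq_of_le_of_card_ge hle (by
    rw [card_piV, ← Nat.card_congr (MonoidHom.ofInjective hρinj).toEquiv, hcardG])
  exact ⟨(MonoidHom.ofInjective hρinj).trans ((MulEquiv.subgroupCongr heq).trans
    ((MonoidHom.ofInjective (f := piV) McLOut.pi_injective).symm.trans McLOut.equivMcL.symm))⟩

end Cfsg.Agent.Spor.McLRec
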