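import Cfsg.Agent.Lib.Fus.McLStab.Main
import Cfsg.Agent.Lib.Spor.McLRec.Checks

/-! The graph on 275 vertices and the unitary group on the neighbours of a vertex. -/

set_option autoImplicit false
set_option maxRecDepth 100000

open Cfsg.Agent.Spor.Cos Cfsg.Agent.Spor.UFourThree

namespace Cfsg.Agent.Spor.McLRec

theorem conn_spec {A : Act} {W : List (List ℕ)} (Pr : ℕ → Prop) (hstep : ∀ w ∈ W, ∀ x, Pr x → Pr (A.go w x)) :
    ∀ (T : List (ℕ × ℕ × ℕ)) (seen : List ℕ), connB A W T seen = true → (∀ x ∈ seen, Pr x) → ∀ e ∈ T, Pr e.1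
  | [], _, _, _ => by simp
  | e :: T, seen, h, hs => by
    have h' : (Nat.blt e.2.2 W.length && seen.any (fun x => Nat.beq x e.2.1) &&
        Nat.beq (A.go (W.getD e.2.2 []) e.2.1) e.1 && connB A W T (e.1 :: seen)) = true := h
    simp only [Bool.and_eq_true, List.any_eq_true] at h'
    obtain ⟨⟨⟨h1, x, hx, h2⟩, h3⟩, h4⟩ := h'
    have hl : e.2.2 < W.length := Nat.le_of_ble_eq_true h1
    have he : Pr e.1 := by
      rw [← Nat.eq_of_beq_eq_true h3, ← Nat.eq_of_beq_eq_true h2]
      exact hstep _ (by rw [List.getD_eq_getElem _ _ hl]; exact List.getElem_mem _) x (hs x hx)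
    intro e' he'
    rcases List.mem_cons.1 he' with rfl | he'
    · exact he
    · exact conn_spec Pr hstep T (e.1 :: seen) h4 (fun y hy => (List.mem_cons.1 hy).elim (· ▸ he) (hs y)) e' he'

theorem conn_pts {A : Act} {W : List (List ℕ)} (Pr : ℕ → Prop) (hstep : ∀ w ∈ W, ∀ x, Pr x → Pr (A.go w x))
    {root : ℕ} {T : List (ℕ × ℕ × ℕ)} (h : connB A W T [root] = true) (hr : Pr root) : ∀ q ∈ ptsOf root T, Pr q := by
  intro q hq
  rcases List.mem_cons.1 hq with rfl | hq
  · exact hr
  · obtain ⟨e, he, rfl⟩ := List.mem_map.1 hq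
    exact conn_spec Pr hstep T [root] h (by simpa using hr) e he

theorem all_beq {l : List ℕ} {q : ℕ} (h : l.any (fun x => Nat.beq x q) = true) : q ∈ l := by
  obtain ⟨x, hx, e⟩ := List.any_eq_true.1 h
  exact Nat.eq_of_beq_eq_true e ▸ hx

/-- The vertices. -/
abbrev V : Type := Fin liftA.N

/-- The lines. -/
abbrev Ln : Type := Fin actL.N

/-- Adjacency. -/
def Adj (x y : V) : Prop := adjB x y = true

theorem adj_symm {x y : V} (h : Adj x y) : Adj y x := by
  have h' := vertex_ok x x.2
  simp only [chkVertex, force_eq, Bool.and_eq_true, List.all_eq_true, List.mem_range, Bool.or_eq_true,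
    Bool.not_eq_true'] at h'
  rcases h'.2.2 y y.2 with e | e
  · exact absurd (show bit (nbrT.at x) y = true from h) (by rw [e]; simp)
  · exact e

theorem adj_irrefl (x : V) : ¬ Adj x x := by
  intro h
  have h' := vertex_ok x x.2
  simp only [chkVertex, force_eq, Bool.and_eq_true, Bool.not_eq_true'] at h'
  rw [show bit (nbrT.at x) x = true from h] at h'
  simp at h'

theorem lift_inv : ∀ p < liftA.N, liftA.chkInv p = true := fun p hp => by
  have h := vertex_ok p hp
  simp only [chkVertex, Bool.and_eq_true] at h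
  exact h.1

theorem im_lt {k s : ℕ} (hk : k < 275) (hs : s < 5) : actM.im k s < 275 := by
  have h := List.all_eq_true.1 (McLOut.act_inv k hk) s (List.mem_range.2 hs)
  rw [force_eq, Bool.and_eq_true] at h
  exact Nat.le_of_ble_eq_true h.1

theorem go_adj : ∀ (w : List ℕ), (∀ s ∈ w, s < 5) → ∀ k l, k < 275 → l < 275 → adjB k l = true →
    actM.go w k < 275 ∧ actM.go w l < 275 ∧ adjB (actM.go w k) (actM.go w l) = true
  | [], _, k, l, hk, hl, h => ⟨hk, hl, h⟩
  | s :: w, hw, k, l, hk, hl, h => by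
    have hs : s < 5 := hw s (List.mem_cons_self ..)
    obtain ⟨h1, h2, h3⟩ := go_adj w (fun t ht => hw t (List.mem_cons_of_mem _ ht)) k l hk hl h
    rw [Act.go_cons, Act.go_cons]
    refine ⟨im_lt h1 hs, im_lt h2 hs, ?_⟩
    have hc := List.all_eq_true.1 (invariant_ok _ h1) s (List.mem_range.2 hs)
    simp only [force_eq] at hc
    have := List.all_eq_true.1 hc _ (List.mem_range.2 h2)
    rw [show bit (nbrT.at (actM.go w k)) (actM.go w l) = true from h3] at this
    simpa [adjB] using this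

theorem imgW_lt : ∀ s < 3, ∀ t ∈ Fus.McLStab.imgW.getD s [], t < 5 := by decide +kernel

/-- Lifted words on the vertices. -/
noncomputable def Mw (w : List ℕ) : Equiv.Perm V := ev liftA.perm w

/-- Words on the lines. -/
noncomputable def Lw (w : List ℕ) : Equiv.Perm (Ln) := ev actL.perm w

theorem Mw_nil : Mw [] = 1 := rfl

theorem Lw_nil : Lw [] = 1 := rfl

theorem Mw_append (v w : List ℕ) : Mw (v ++ w) = Mw v * Mw w := ev_append _ v w

theorem Lw_append (v w : List ℕ) : Lw (v ++ w) = Lw v * Lw w := ev_append _ v w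

theorem Lw_apply {w : List ℕ} (hw : ∀ s ∈ w, s < 3) (p : Ln) : (Lw w p : ℕ) = actL.go w p :=
  actL.ev_apply lineInv w hw p

theorem Mw_apply {w : List ℕ} (hw : ∀ s ∈ w, s < 3) (x : V) : (Mw w x : ℕ) = liftA.go w x :=
  liftA.ev_apply lift_inv w hw x

theorem Lw_reverse {w : List ℕ} (hw : ∀ s ∈ w, s < 3) : Lw w.reverse = (Lw w)⁻¹ :=
  ev_reverse (n := 3) (fun s _ => actL.perm_sq s) w hw

theorem Mw_reverse {w : List ℕ} (hw : ∀ s ∈ w, s < 3) : Mw w.reverse = (Mw w)⁻¹ :=
  ev_reverse (n := 3) (fun s _ => liftA.perm_sq s) w hw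

theorem gen_adj {s : ℕ} (hs : s < 3) {x y : V} (h : Adj x y) : Adj (liftA.perm s x) (liftA.perm s y) := by
  have hx := List.all_eq_true.1 (lift_ok x x.2) s (List.mem_range.2 hs)
  have hy := List.all_eq_true.1 (lift_ok y y.2) s (List.mem_range.2 hs)
  show adjB (liftA.perm s x : ℕ) (liftA.perm s y : ℕ) = true
  rw [liftA.perm_apply lift_inv hs, liftA.perm_apply lift_inv hs, Nat.eq_of_beq_eq_true hx,
    Nat.eq_of_beq_eq_true hy]
  exact (go_adj _ (imgW_lt s hs) x y x.2 y.2 h).2.2

theorem Mw_adj : ∀ {w : List ℕ}, (∀ s ∈ w, s < 3) → ∀ x y : V, Adj (Mw w x) (Mw w y) ↔ Adj x y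
  | [], _, _, _ => Iff.rfl
  | s :: w, hw, x, y => by
    have hs : s < 3 := hw s (List.mem_cons_self ..)
    refine Iff.trans ⟨fun h => ?_, gen_adj hs⟩ (Mw_adj (fun t ht => hw t (List.mem_cons_of_mem _ ht)) x y)
    have h' := gen_adj hs h
    have e : ∀ z : V, liftA.perm s (Mw (s :: w) z) = Mw w z := fun z => by
      show (liftA.perm s * (liftA.perm s * Mw w)) z = _
      rw [← mul_assoc, liftA.perm_sq, one_mul]
    rwa [e, e] at h'

/-- The base vertex. -/
def v0 : V := ⟨4, by decide⟩

/-- The vertex of a line. -/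
noncomputable def embF (p : Ln) : V := ⟨emb p, by
  have h := embKind_ok p p.2
  simp only [chkEmbKind, Bool.and_eq_true] at h
  exact Nat.le_of_ble_eq_true h.1.1⟩

/-- The far vertex of an index. -/
noncomputable def farF (j : Fin 162) : V := ⟨farT.at j, by
  have h := far_ok j j.2
  simp only [chkFar, force_eq, Bool.and_eq_true] at h
  exact Nat.le_of_ble_eq_true h.1.1.1⟩

theorem kind_embF (p : Ln) : kindT.at (embF p) = p := by
  have h := embKind_ok p p.2
  simp only [chkEmbKind, Bool.and_eq_true] at h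
  exact Nat.eq_of_beq_eq_true h.1.2

theorem kind_farF (j : Fin 162) : kindT.at (farF j) = 113 + j := by
  have h := far_ok j j.2
  simp only [chkFar, force_eq, Bool.and_eq_true] at h
  exact Nat.eq_of_beq_eq_true h.1.1.2

theorem kind_v0 : kindT.at v0 = 112 := by decide +kernel

theorem embF_injective : Function.Injective embF := fun p q e => Fin.ext (by rw [← kind_embF, e, kind_embF])

theorem farF_injective : Function.Injective farF := fun p q e => Fin.ext (by
  have h := kind_farF p
  rw [e, kind_farF] at h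
  omega)

theorem vertex_cases (x : V) : x = v0 ∨ (∃ p, x = embF p) ∨ ∃ j, x = farF j := by
  have h := kind_ok x x.2
  simp only [chkKind, force_eq, Bool.or_eq_true, Bool.and_eq_true] at h
  rcases h with (⟨h1, h2⟩ | ⟨-, h2⟩) | ⟨⟨h0, h1⟩, h2⟩
  · exact Or.inr (Or.inl ⟨⟨_, Nat.le_of_ble_eq_true h1⟩, Fin.ext (Nat.eq_of_beq_eq_true h2).symm⟩)
  · exact Or.inl (Fin.ext (Nat.eq_of_beq_eq_true h2))
  · have a1 : 112 < kindT.at x := Nat.le_of_ble_eq_true h0
    have a2 : kindT.at x < 275 := Nat.le_of_ble_eq_true h1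
    exact Or.inr (Or.inr ⟨⟨kindT.at x - 113, by omega⟩, Fin.ext (Nat.eq_of_beq_eq_true h2).symm⟩)

theorem adj_v0_emb (p : Ln) : Adj v0 (embF p) := by
  have h := embKind_ok p p.2
  simp only [chkEmbKind, Bool.and_eq_true] at h
  exact h.2

theorem not_adj_v0_far (j : Fin 162) : ¬ Adj v0 (farF j) := by
  have h := far_ok j j.2
  simp only [chkFar, force_eq, Bool.and_eq_true, Bool.not_eq_true'] at h
  intro h'
  rw [show adjB 4 (farT.at j) = true from h'] at h
  simp at h

/-- The lines adjacent to a far vertex. -/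
def Hemi (j : Fin 162) (p : Ln) : Prop := bit (hemiT.at j) p = true

theorem hemi_iff (j : Fin 162) (p : Ln) : Hemi j p ↔ Adj (farF j) (embF p) := by
  have h := far_ok j j.2
  simp only [chkFar, force_eq, Bool.and_eq_true, List.all_eq_true, List.mem_range] at h
  have h' := h.2 p p.2
  unfold Hemi Adj adjB
  show _ ↔ bit (nbrT.at (farT.at j)) (emb p) = true
  cases e : bit (hemiT.at j) p <;> rw [e] at h' <;> simp_all

theorem bit_eq (m p : ℕ) : bit m p = m.testBit p := by
  rw [bit, Nat.testBit_eq_decide_div_mod_eq, Nat.shiftRight_eq_div_pow]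
  rcases Nat.mod_two_eq_zero_or_one (m / 2 ^ p) with e | e <;> rw [e] <;> rfl

theorem hemi_injective {i j : Fin 162} (h : ∀ p, Hemi i p ↔ Hemi j p) : i = j := by
  have hb : ∀ k : Fin 162, hemiT.at k < 2 ^ 112 := fun k => by
    have := more_ok
    simp only [chkMore, Bool.and_eq_true, List.all_eq_true, List.mem_range] at this
    exact Nat.le_of_ble_eq_true (this.1.2 k k.2)
  have e : hemiT.at i = hemiT.at j := Nat.eq_of_testBit_eq fun n => by
    rcases Nat.lt_or_ge n 112 with hn | hn
    · have := h ⟨n, hn⟩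
      simp only [Hemi, bit_eq] at this
      exact Bool.eq_iff_iff.2 this
    · rw [Nat.testBit_eq_false_of_lt ((hb i).trans_le (Nat.pow_le_pow_right (by norm_num) hn)),
        Nat.testBit_eq_false_of_lt ((hb j).trans_le (Nat.pow_le_pow_right (by norm_num) hn))]
  have h' := hemiNe_ok i i.2
  simp only [chkHemiNe, force_eq, List.all_eq_true, List.mem_range, Bool.or_eq_true, Bool.not_eq_true'] at h'
  rcases h' j j.2 with h1 | h1
  · exact Fin.ext (Nat.eq_of_beq_eq_true h1)
  · exact absurd e (Nat.ne_of_beq_eq_false h1)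

theorem Mw_v0 : ∀ {w : List ℕ}, (∀ s ∈ w, s < 3) → Mw w v0 = v0
  | [], _ => rfl
  | s :: w, hw => by
    have hs : s < 3 := hw s (List.mem_cons_self ..)
    show liftA.perm s (Mw w v0) = v0
    rw [Mw_v0 fun t ht => hw t (List.mem_cons_of_mem _ ht)]
    have h := more_ok
    simp only [chkMore, Bool.and_eq_true, List.all_eq_true, List.mem_range] at h
    exact Fin.ext ((liftA.perm_apply lift_inv hs v0).trans (Nat.eq_of_beq_eq_true (h.1.1.1.1 s hs)))

theorem Mw_emb : ∀ {w : List ℕ}, (∀ s ∈ w, s < 3) → ∀ p, Mw w (embF p) = embF (Lw w p)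
  | [], _, _ => rfl
  | s :: w, hw, p => by
    have hs : s < 3 := hw s (List.mem_cons_self ..)
    show liftA.perm s (Mw w (embF p)) = embF (actL.perm s (Lw w p))
    rw [Mw_emb (fun t ht => hw t (List.mem_cons_of_mem _ ht)) p]
    set q := Lw w p
    have h := List.all_eq_true.1 (emb_ok q q.2) s (List.mem_range.2 hs)
    refine Fin.ext ((liftA.perm_apply lift_inv hs _).trans ((Nat.eq_of_beq_eq_true h).trans ?_))
    show emb (actL.im q s) = emb (actL.perm s q : ℕ)
    rw [actL.perm_apply lineInv hs]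

/-- Adjacency of lines. -/
def AdjL (p q : Ln) : Prop := Adj (embF p) (embF q)

theorem Lw_adj {w : List ℕ} (hw : ∀ s ∈ w, s < 3) (p q : Ln) : AdjL (Lw w p) (Lw w q) ↔ AdjL p q := by
  show Adj (embF _) (embF _) ↔ _
  rw [← Mw_emb hw, ← Mw_emb hw]
  exact Mw_adj hw _ _

/-- The homomorphism to the permutations of lines. -/
noncomputable def theta : G43 →* Equiv.Perm (Ln) := exists_homL.choose

theorem theta_hom : actL.Hom gT theta := exists_homL.choose_spec

theorem theta_ev (w : List ℕ) : theta (ev gT w) = Lw w := by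
  rw [ev_map, show (fun s => theta (gT s)) = actL.perm from funext theta_hom.gen]
  rfl

theorem finite_G43 : Finite G43 := Nat.finite_of_card_ne_zero (by rw [card_G43]; norm_num)

theorem simple_G43 : IsSimpleGroup G43 :=
  Cfsg.Agent.S0283.result (q := 3) K9.card_eq 4 (by norm_num) (by norm_num)

theorem theta_injective : Function.Injective theta := by
  have := simple_G43
  rw [← MonoidHom.ker_eq_bot_iff]
  refine (theta.normal_ker.eq_bot_or_eq_top).resolve_right fun htop => ?_
  have h1 : theta (gT 0) = 1 := MonoidHom.mem_ker.1 (htop ▸ Subgroup.mem_top _)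
  rw [theta_hom.gen] at h1
  have h2 : ∀ p : Fin actL.N, actL.im p 0 = p := fun p => by
    rw [← actL.perm_apply lineInv (s := 0) (by decide) p, h1]; rfl
  rcases Fus.McLStab.moves_line with h | h | h
  exacts [h (h2 ⟨0, by decide⟩), h (h2 ⟨1, by decide⟩), h (h2 ⟨2, by decide⟩)]

theorem exists_word (y : G43) : ∃ w : List ℕ, (∀ s ∈ w, s < 3) ∧ ev gT w = y := by
  have hy : y ∈ Subgroup.closure {x | ∃ s < 3, gT s = x} := gen ▸ Subgroup.mem_top y
  induction hy using Subgroup.closure_induction with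
  | mem x hx =>
    obtain ⟨s, hs, rfl⟩ := hx
    exact ⟨[s], by simp [hs], mul_one _⟩
  | one => exact ⟨[], by simp, rfl⟩
  | mul x y _ _ hx hy =>
    obtain ⟨v, hv, rfl⟩ := hx
    obtain ⟨w, hw, rfl⟩ := hy
    exact ⟨v ++ w, fun s hs => (List.mem_append.1 hs).elim (hv s) (hw s), ev_append _ _ _⟩
  | inv x _ hx =>
    obtain ⟨v, hv, rfl⟩ := hx
    refine ⟨v.reverse, fun s hs => hv s (List.mem_reverse.1 hs), theta_injective ?_⟩
    rw [map_inv, theta_ev, theta_ev, Lw_reverse hv]

/-- The base line. -/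
def zF : Ln := ⟨36, by decide⟩

theorem lines_transitive (p : Ln) : ∃ w : List ℕ, (∀ s ∈ w, s < 3) ∧ Lw w zF = p := by
  have h := more_ok
  simp only [chkMore, Bool.and_eq_true, List.all_eq_true, List.mem_range] at h
  have key := conn_pts (A := actL) (W := genWords)
    (fun x => ∃ w : List ℕ, (∀ s ∈ w, s < 3) ∧ (Lw w zF : ℕ) = x) (fun v hv x ⟨w, hw, e⟩ => by
      have hv' : ∀ s ∈ v, s < 3 := by
        simp only [genWords, List.mem_cons, List.not_mem_nil, or_false] at hv
        rcases hv with rfl | rfl | rfl <;> simp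
      refine ⟨v ++ w, fun s hs => (List.mem_append.1 hs).elim (hv' s) (hw s), ?_⟩
      rw [Lw_append, Equiv.Perm.mul_apply, Lw_apply hv', e])
    h.1.1.1.2 ⟨[], by simp, rfl⟩ p (all_beq (h.1.1.2 p p.2))
  obtain ⟨w, hw, e⟩ := key
  exact ⟨w, hw, Fin.ext e⟩

/-- The three-group fixing the base line. -/
noncomputable def U : Subgroup G43 := Subgroup.closure (tab3.elem gT '' {k | k < tab3.P.n})

end Cfsg.Agent.Spor.McLRec
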