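import Mathlib

/-!
A transitive group of degree 275 with a point stabiliser having orbits of sizes 1, 112, 162 gives a strongly regular
graph with parameters (275, 112, 30, 56); five pairwise adjacent vertices meet every other neighbourhood twice.
-/

set_option autoImplicit false

namespace Cfsg.Agent.Spor.McLRec

open Finset

theorem srg_common {V : Type*} [Fintype V] [DecidableEq V] {Γ : SimpleGraph V} [DecidableRel Γ.Adj] {n k l m : ℕ}
    (h : Γ.IsSRGWith n k l m) (x y : V) : #(univ.filter fun z => Γ.Adj x z ∧ Γ.Adj y z) =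
      if x = y then k else if Γ.Adj x y then l else m := by
  split_ifs with h1 h2
  · subst h1
    rw [← h.regular x, ← SimpleGraph.card_neighborFinset_eq_degree]; congr 1; ext z; simp
  · rw [← h.of_adj x y h2, Fintype.card_subtype]; congr 1
  · rw [← h.of_not_adj h1 h2, Fintype.card_subtype]; congr 1

theorem srg_nbrs {V : Type*} [Fintype V] [DecidableEq V] {Γ : SimpleGraph V} [DecidableRel Γ.Adj] {n k l m : ℕ}
    (h : Γ.IsSRGWith n k l m) (x : V) : #(univ.filter fun z => Γ.Adj x z) = k := by
  rw [← h.regular x, ← SimpleGraph.card_neighborFinset_eq_degree]; congr 1; ext z; simp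

/-- The parameters (275, 112, 111, 0) do not occur. -/
theorem clique_union_false {V : Type*} [Fintype V] [DecidableEq V] {Γ : SimpleGraph V} [DecidableRel Γ.Adj]
    (h : Γ.IsSRGWith 275 112 111 0) : False := by
  classical
  let f : V → Finset V := fun x => insert x (univ.filter fun z => Γ.Adj x z)
  have hf : ∀ x, #(f x) = 113 := fun x => by rw [card_insert_of_notMem (by simp), srg_nbrs h]
  have hsame : ∀ x y, Γ.Adj x y → f y = f x := by
    intro x y hxy
    refine eq_of_subset_of_card_le (fun z hz => ?_) (by rw [hf, hf])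
    simp only [f, mem_insert, mem_filter, mem_univ, true_and] at hz ⊢
    rcases hz with rfl | hz
    · exact Or.inr hxy
    · by_cases hzx : z = x
      · exact Or.inl hzx
      · refine Or.inr (by_contra fun hn => ?_)
        have h0 := srg_common h x z
        rw [if_neg (Ne.symm hzx), if_neg hn, card_eq_zero, filter_eq_empty_iff] at h0
        exact h0 (mem_univ y) ⟨hxy, hz.symm⟩
  have hfib : ∀ S ∈ univ.image f, #(univ.filter fun y => f y = S) = 113 := by
    intro S hS
    obtain ⟨x, -, rfl⟩ := mem_image.1 hS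
    rw [← hf x]
    congr 1
    ext y
    simp only [mem_filter, mem_univ, true_and]
    refine ⟨fun e => e ▸ mem_insert_self y _, fun hy => ?_⟩
    simp only [f, mem_insert, mem_filter, mem_univ, true_and] at hy
    rcases hy with rfl | hy
    · rfl
    · exact hsame x y hy
  have h1 := card_eq_sum_card_image f (univ : Finset V)
  rw [sum_congr rfl hfib, sum_const, smul_eq_mul, card_univ, h.card] at h1
  omega

/-- Outside five pairwise adjacent vertices every vertex has exactly two neighbours among them. -/
theorem two_in_clique {V : Type*} [Fintype V] [DecidableEq V] {Γ : SimpleGraph V} [DecidableRel Γ.Adj]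
    (h : Γ.IsSRGWith 275 112 30 56) (K : Finset V) (hK : #K = 5) (hadj : ∀ x ∈ K, ∀ y ∈ K, x ≠ y → Γ.Adj x y)
    {w : V} (hw : w ∉ K) : #(K.filter fun x => Γ.Adj w x) = 2 := by
  classical
  let n : V → ℕ := fun z => #(K.filter fun x => Γ.Adj z x)
  have hone : ∑ z, (n z : ℤ) = 560 := by
    have : ∑ z, n z = 560 := by
      simp only [n, card_filter]
      rw [sum_comm]
      have h1 : ∀ x ∈ K, (∑ z, if Γ.Adj z x then 1 else 0) = 112 := fun x _ => by
        rw [← card_filter, ← srg_nbrs h x]; congr 1; ext z; simp [Γ.adj_comm]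
      rw [sum_congr rfl h1, sum_const, hK]
      rfl
    exact_mod_cast this
  have htwo : ∑ z, (n z : ℤ) * n z = 1160 := by
    have : ∑ z, n z * n z = 1160 := by
      simp only [n, card_filter, sum_mul_sum]
      rw [sum_comm]
      have h1 : ∀ x ∈ K, (∑ z, ∑ y ∈ K, (if Γ.Adj z x then 1 else 0) * if Γ.Adj z y then 1 else 0) = 232 := by
        intro x hx
        rw [sum_comm]
        have h2 : ∀ y ∈ K, (∑ z, (if Γ.Adj z x then 1 else 0) * if Γ.Adj z y then 1 else 0) =
            if x = y then 112 else 30 := fun y hy => by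
          have h3 := srg_common h x y
          by_cases hxy : x = y
          · subst hxy
            simp only [if_true] at h3 ⊢
            rw [← h3, card_filter]
            exact sum_congr rfl fun z _ => by by_cases hz : Γ.Adj z x <;> simp [hz, Γ.adj_comm x]
          · rw [if_neg hxy, if_pos (hadj x hx y hy hxy)] at h3
            rw [if_neg hxy, ← h3, card_filter]
            exact sum_congr rfl fun z _ => by
              by_cases hz : Γ.Adj z x <;> by_cases hz' : Γ.Adj z y <;> simp [hz, hz', Γ.adj_comm x, Γ.adj_comm y]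
        rw [sum_congr rfl h2, ← add_sum_erase _ _ hx, if_pos rfl,
          sum_congr rfl fun y hy => if_neg (ne_of_mem_erase hy).symm, sum_const, card_erase_of_mem hx, hK]
        rfl
      rw [sum_congr rfl h1, sum_const, hK]
      rfl
    exact_mod_cast this
  have hin : ∀ z ∈ K, n z = 4 := fun z hz => by
    have : K.filter (fun x => Γ.Adj z x) = K.erase z := by
      ext x
      simp only [mem_filter, mem_erase]
      exact ⟨fun ⟨a, b⟩ => ⟨b.ne', a⟩, fun ⟨a, b⟩ => ⟨b, hadj z hz x b (Ne.symm a)⟩⟩
    simp only [n, this, card_erase_of_mem hz, hK]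
  have hzero : ∑ z ∈ Kᶜ, ((n z : ℤ) - 2) * ((n z : ℤ) - 2) = 0 := by
    have h1 : ∑ z, ((n z : ℤ) - 2) * ((n z : ℤ) - 2) = 1160 - 4 * 560 + 4 * 275 := by
      rw [← hone, ← htwo, mul_sum, ← sum_sub_distrib]
      have h275 : (4 : ℤ) * 275 = ∑ _z : V, (4 : ℤ) := by rw [sum_const, card_univ, h.card]; norm_num
      rw [h275, ← sum_add_distrib]
      exact sum_congr rfl fun z _ => by ring
    rw [← sum_add_sum_compl K, sum_congr rfl (fun z hz => by rw [hin z hz]), sum_const, hK] at h1
    norm_num at h1
    linarith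
  have h0 := (sum_eq_zero_iff_of_nonneg fun z _ => mul_self_nonneg _).1 hzero w (mem_compl.2 hw)
  have : (n w : ℤ) = 2 := by
    have := mul_self_eq_zero.1 h0
    linarith
  exact_mod_cast this

section Orbital

variable {G Ω : Type*} [Group G] [Finite G] [MulAction G Ω] [Fintype Ω] [DecidableEq Ω] [MulAction.IsPretransitive G Ω]
  {a b c : Ω}

omit [Finite G] [DecidableEq Ω] [MulAction.IsPretransitive G Ω] in
theorem orbit_cases (hΩ : Fintype.card Ω = 275) (hb : (MulAction.orbit (MulAction.stabilizer G a) b).ncard = 112)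
    (hc : (MulAction.orbit (MulAction.stabilizer G a) c).ncard = 162) :
    a ∉ MulAction.orbit (MulAction.stabilizer G a) b ∧ ∀ y : Ω, y = a ∨ y ∈ MulAction.orbit (MulAction.stabilizer G a) b ∨
      y ∈ MulAction.orbit (MulAction.stabilizer G a) c := by
  set H := MulAction.stabilizer G a
  have ha : MulAction.orbit H a = {a} := by
    ext y
    simp only [MulAction.mem_orbit_iff, Set.mem_singleton_iff]
    exact ⟨fun ⟨g, hg⟩ => hg ▸ g.2, fun e => ⟨1, by rw [e, one_smul]⟩⟩
  have hne : ∀ x : Ω, 1 < (MulAction.orbit H x).ncard → a ∉ MulAction.orbit H x := fun x hx h => by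
    rw [← MulAction.orbit_eq_iff.2 h, ha, Set.ncard_singleton] at hx
    omega
  have hab := hne b (by omega)
  have hac := hne c (by omega)
  have hbc : Disjoint (MulAction.orbit H b) (MulAction.orbit H c) := by
    rw [Set.disjoint_left]
    intro y h1 h2
    rw [← MulAction.orbit_eq_iff.2 h1, MulAction.orbit_eq_iff.2 h2, hc] at hb
    omega
  refine ⟨hab, fun y => ?_⟩
  have huniv : insert a (MulAction.orbit H b ∪ MulAction.orbit H c) = Set.univ := by
    refine Set.eq_of_subset_of_ncard_le (Set.subset_univ _) ?_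
    rw [Set.ncard_univ, Nat.card_eq_fintype_card, hΩ, Set.ncard_insert_of_notMem (by simp [hab, hac]),
      Set.ncard_union_eq hbc, hb, hc]
  have := huniv.ge (Set.mem_univ y)
  simpa [or_assoc] using this

variable (G a b) in
/-- Adjacency: the pair is a translate of `(a, b)`. -/
def Rel (x y : Ω) : Prop := ∃ g : G, g • a = x ∧ g • b = y

omit [Finite G] [Fintype Ω] [DecidableEq Ω] [MulAction.IsPretransitive G Ω] in
theorem rel_smul {x y : Ω} (h : Rel G a b x y) (g : G) : Rel G a b (g • x) (g • y) := by
  obtain ⟨k, rfl, rfl⟩ := h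
  exact ⟨g * k, mul_smul _ _ _, mul_smul _ _ _⟩

omit [Finite G] [Fintype Ω] [DecidableEq Ω] [MulAction.IsPretransitive G Ω] in
theorem rel_left {y : Ω} : Rel G a b a y ↔ y ∈ MulAction.orbit (MulAction.stabilizer G a) b := by
  constructor
  · rintro ⟨g, h1, h2⟩; exact ⟨⟨g, h1⟩, h2⟩
  · rintro ⟨g, hg⟩; exact ⟨g, g.2, hg⟩

/-- The orbital graph. -/
theorem exists_srg (hΩ : Fintype.card Ω = 275) (hb : (MulAction.orbit (MulAction.stabilizer G a) b).ncard = 112)
    (hc : (MulAction.orbit (MulAction.stabilizer G a) c).ncard = 162) :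
    ∃ (Γ : SimpleGraph Ω) (_ : DecidableRel Γ.Adj), Γ.IsSRGWith 275 112 30 56 ∧
      (∀ (g : G) (x y : Ω), Γ.Adj (g • x) (g • y) ↔ Γ.Adj x y) ∧
      ∀ y, Γ.Adj a y → y ∈ MulAction.orbit (MulAction.stabilizer G a) b := by
  classical
  obtain ⟨hab, hcases⟩ := orbit_cases hΩ hb hc
  have hne : ∀ x, ¬ Rel G a b x x := by
    rintro x ⟨g, h1, h2⟩
    exact hab ⟨1, (one_smul _ b).trans (smul_left_cancel g (h2.trans h1.symm))⟩
  -- the paired suborbit is the same
  have hsymm : ∀ x y, Rel G a b x y → Rel G a b y x := by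
    have hba : Rel G a b b a := by
      obtain ⟨k, hk⟩ := MulAction.exists_smul_eq G b a
      set H := MulAction.stabilizer G a
      have horb : ∀ z : Ω, (MulAction.orbit H z).ncard * Nat.card ↥(MulAction.stabilizer H z) = Nat.card H := fun z => by
        rw [← Nat.card_coe_set_eq, ← Nat.card_prod]
        exact Nat.card_congr (MulAction.orbitProdStabilizerEquivGroup H z)
      have heq : Nat.card ↥(MulAction.stabilizer H (k • a)) = Nat.card ↥(MulAction.stabilizer H b) := by
        refine Nat.card_congr
          { toFun := fun g => ⟨⟨k⁻¹ * g.1.1 * k, ?_⟩, ?_⟩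
            invFun := fun g => ⟨⟨k * g.1.1 * k⁻¹, ?_⟩, ?_⟩
            left_inv := fun g => by ext; simp [mul_assoc]
            right_inv := fun g => by ext; simp [mul_assoc] }
        · have h2 : g.1.1 • (k • a) = k • a := g.2
          show (k⁻¹ * g.1.1 * k) • a = a
          rw [mul_smul, mul_smul, h2, inv_smul_smul]
        · have h1 : g.1.1 • a = a := g.1.2
          show (k⁻¹ * g.1.1 * k) • b = b
          rw [mul_smul, mul_smul, hk, h1, ← hk, inv_smul_smul]
        · have h2 : g.1.1 • b = b := g.2
          show (k * g.1.1 * k⁻¹) • a = a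
          rw [← hk, ← mul_smul, inv_mul_cancel_right, mul_smul, h2]
        · have h1 : g.1.1 • a = a := g.1.2
          show (k * g.1.1 * k⁻¹) • (k • a) = k • a
          rw [← mul_smul, inv_mul_cancel_right, mul_smul, h1]
      have h112 : (MulAction.orbit H (k • a)).ncard = 112 := by
        have h1 := horb (k • a)
        rw [heq, ← horb b, hb] at h1
        exact Nat.eq_of_mul_eq_mul_right Nat.card_pos h1
      have hmem : k • a ∈ MulAction.orbit H b := by
        rcases hcases (k • a) with h | h | h
        · exfalso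
          have : k • a = k • b := h.trans hk.symm
          exact hne a ⟨1, one_smul _ _, by rw [one_smul]; exact (smul_left_cancel k this).symm⟩
        · exact h
        · rw [MulAction.orbit_eq_iff.2 h, hc] at h112; omega
      have := rel_smul (rel_left.2 hmem) k⁻¹
      rwa [inv_smul_smul, show k⁻¹ • a = b by rw [← hk, inv_smul_smul]] at this
    rintro x y ⟨g, rfl, rfl⟩
    exact rel_smul hba g
  let Γ : SimpleGraph Ω :=
    { Adj := Rel G a b
      symm := ⟨hsymm⟩
      loopless := ⟨hne⟩ }
  have hinv : ∀ (g : G) (x y : Ω), Γ.Adj (g • x) (g • y) ↔ Γ.Adj x y := fun g x y =>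
    ⟨fun h => by have := rel_smul h g⁻¹; rwa [inv_smul_smul, inv_smul_smul] at this, fun h => rel_smul h g⟩
  refine ⟨Γ, inferInstance, ?_, hinv, fun y hy => rel_left.1 hy⟩
  let N : Ω → Finset Ω := fun x => univ.filter fun z => Γ.Adj x z
  let C : Ω → Ω → ℕ := fun x y => #(univ.filter fun z => Γ.Adj x z ∧ Γ.Adj y z)
  have hCinv : ∀ (g : G) x y, C (g • x) (g • y) = C x y := fun g x y => by
    symm
    refine card_nbij' (g • ·) (g⁻¹ • ·) ?_ ?_ ?_ ?_
    · intro z hz
      simp only [coe_filter, mem_univ, true_and, Set.mem_ofPred_eq] at hz ⊢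
      exact ⟨(hinv g x z).2 hz.1, (hinv g y z).2 hz.2⟩
    · intro z hz
      simp only [coe_filter, mem_univ, true_and, Set.mem_ofPred_eq] at hz ⊢
      rw [← hinv g x, ← hinv g y, smul_inv_smul]; exact hz
    · intro z _; exact inv_smul_smul g z
    · intro z _; exact smul_inv_smul g z
  have hNa : #(N a) = 112 := by
    rw [← hb, ← Set.ncard_coe_finset]
    congr 1
    ext z
    simp [N, Γ, rel_left]
  have hN : ∀ x, #(N x) = 112 := fun x => by
    obtain ⟨g, rfl⟩ := MulAction.exists_smul_eq G a x
    rw [← hNa]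
    symm
    refine card_nbij' (g • ·) (g⁻¹ • ·) ?_ ?_ ?_ ?_
    · intro z hz
      simp only [N, coe_filter, mem_univ, true_and, Set.mem_ofPred_eq] at hz ⊢
      exact (hinv g a z).2 hz
    · intro z hz
      simp only [N, coe_filter, mem_univ, true_and, Set.mem_ofPred_eq] at hz ⊢
      rw [← hinv g a, smul_inv_smul]; exact hz
    · intro z _; exact inv_smul_smul g z
    · intro z _; exact smul_inv_smul g z
  set l := C a b with hl
  set m := C a c with hm
  have hCb : ∀ y, Γ.Adj a y → C a y = l := fun y hy => by
    obtain ⟨g, hg⟩ := rel_left.1 hy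
    have hga : (g : G) • a = a := g.2
    have hgb : (g : G) • b = y := hg
    have := hCinv g a b
    rwa [hga, hgb] at this
  have hCc : ∀ y, y ≠ a → ¬ Γ.Adj a y → C a y = m := fun y hy hn => by
    rcases hcases y with h | h | h
    · exact absurd h hy
    · exact absurd (rel_left.2 h) hn
    obtain ⟨g, hg⟩ := h
    have hga : (g : G) • a = a := g.2
    have hgc : (g : G) • c = y := hg
    have := hCinv g a c
    rwa [hga, hgc] at this
  have hsum : ∑ y, C a y = 112 * 112 := by
    simp only [C, card_filter, ite_and]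
    rw [sum_comm]
    have : ∀ z, (∑ y, if Γ.Adj a z then if Γ.Adj y z then 1 else 0 else 0) = if Γ.Adj a z then 112 else 0 := fun z => by
      by_cases hz : Γ.Adj a z
      · simp only [hz, if_true]
        rw [← card_filter, ← hN z]
        simp [N, Γ.adj_comm z]
      · simp [hz]
    rw [sum_congr rfl fun z _ => this z, ← sum_filter, sum_const, smul_eq_mul]
    exact congrArg (· * 112) hNa
  have hcount : 112 + 112 * l + 162 * m = 12544 := by
    have hCa : C a a = 112 := by rw [← hNa]; simp [C, N]
    rw [← add_sum_erase _ _ (mem_univ a), hCa, ← sum_filter_add_sum_filter_not (univ.erase a) (fun y => Γ.Adj a y),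
      sum_congr rfl fun y hy => hCb y (mem_filter.1 hy).2,
      sum_congr rfl fun y hy => hCc y (ne_of_mem_erase (mem_filter.1 hy).1) (mem_filter.1 hy).2,
      sum_const, sum_const, smul_eq_mul, smul_eq_mul] at hsum
    have e1 : (univ.erase a).filter (fun y => Γ.Adj a y) = N a := by
      ext y
      simp only [N, mem_filter, mem_erase, mem_univ, and_true, true_and]
      exact ⟨And.right, fun h => ⟨h.ne', h⟩⟩
    have e2 := card_filter_add_card_filter_not (s := univ.erase a) (fun y => Γ.Adj a y)
    rw [card_erase_of_mem (mem_univ a), card_univ, hΩ, e1, hNa] at e2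
    rw [e1, hNa, show #((univ.erase a).filter fun y => ¬ Γ.Adj a y) = 162 by omega] at hsum
    omega
  have hsrg : Γ.IsSRGWith 275 112 l m :=
    { card := hΩ
      regular := fun x => by
        rw [← SimpleGraph.card_neighborFinset_eq_degree, ← hN x]; congr 1; ext z; simp [N]
      of_adj := fun x y hxy => by
        obtain ⟨g, hg⟩ := MulAction.exists_smul_eq G x a
        rw [Fintype.card_subtype]
        have h1 : C (g • x) (g • y) = C x y := hCinv g x y
        rw [hg, hCb _ (by rw [← hg]; exact (hinv g x y).2 hxy)] at h1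
        rw [h1]
        congr 1
      of_not_adj := fun x y hxy hn => by
        obtain ⟨g, hg⟩ := MulAction.exists_smul_eq G x a
        rw [Fintype.card_subtype]
        have h1 : C (g • x) (g • y) = C x y := hCinv g x y
        rw [hg, hCc _ (fun e => hxy (smul_left_cancel g (hg.trans e.symm)))
          (by rw [← hg]; exact fun e => hn ((hinv g x y).1 e))] at h1
        rw [h1]
        congr 1 }
  have h1 : (l = 30 ∧ m = 56) ∨ (l = 111 ∧ m = 0) := by
    have : m ≤ 76 := by omega
    interval_cases m <;> omega
  rcases h1 with ⟨h1, h2⟩ | ⟨h1, h2⟩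
  · rw [h1, h2] at hsrg; exact hsrg
  · rw [h1, h2] at hsrg; exact (clique_union_false hsrg).elim

end Orbital

end Cfsg.Agent.Spor.McLRec
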