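import Cfsg.Agent.Lib.Spor.McLRec.Model

/-! The subgroups of index 112 of the unitary group fix a line, and two suborbits. -/

set_option autoImplicit false
set_option maxRecDepth 100000

open Cfsg.Agent.Spor.Cos Cfsg.Agent.Spor.UFourThree Cfsg.Agent.Grp.SchurM.Tails Finset

namespace Cfsg.Agent.Spor.McLRec

theorem card_U : Nat.card U = 729 := by
  have := finite_G43
  have hr := tab3_rel
  have hc := tab3_card
  simp only [TableCert.chkRel, Bool.and_eq_true, List.all_eq_true, List.mem_range] at hr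
  obtain ⟨⟨⟨hl1, -⟩, hrels⟩, -⟩ := hr
  simp only [TableCert.chkCard, Bool.and_eq_true, List.all_eq_true] at hc
  obtain ⟨⟨hlt, hlen⟩, hinc⟩ := hc
  have hfl := fun w => TableCert.letters_flat (S := tab3) hl1 w
  have hb : ∀ b ∈ frame, b < actA.N := by decide +kernel
  have rels : ∀ j < tab3.P.n, ∀ i ≤ j,
      evL (tab3.elem gT) (tab3.P.rule j i) = lhsV tab3.P (tab3.elem gT) j i := by
    intro j hj i hij
    have h := TableCert.eq_of_agree homA hb det (hfl _) (hfl _) (hrels j hj i (Nat.lt_succ_of_le hij))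
    rw [TableCert.ev_flat, TableCert.ev_flat] at h
    rw [h, lhsV, PC.lhs]
    split_ifs
    · next he => subst he; exact evL_replicate (tab3.elem gT) _ _
    · simp [evL]
  refine le_antisymm ?_ ?_
  · have hwf : tab3.P.wellFormed = true := by decide +kernel
    have h := card_upper (P := tab3.P) hwf (by decide) (tab3.elem gT) (z := (1 : G43)) (one_mem _)
      (fun j hj i hij => by rw [rels j hj i hij, inv_mul_cancel]; exact one_mem _) _ _ (zero_add _)
    rw [Subgroup.zpowers_one_eq_bot, Subgroup.card_bot, one_mul] at h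
    refine le_trans (le_of_eq ?_) h
    rw [U, upper, Set.singleton_union, Subgroup.closure_insert_one]
    simp only [Nat.zero_le, true_and]
  · obtain ⟨-, hpw⟩ := TableCert.inc_pairwise hinc
    have hnd : (tab3.els.map (evL (tab3.elem gT))).Nodup := by
      refine List.pairwise_map.2 (hpw.imp fun {u v} huv he => huv.ne ?_)
      refine TableCert.code_eq_code fun b hb' => ?_
      rw [← homA.apply_ev _ (hfl u) ⟨b, hb b hb'⟩, ← homA.apply_ev _ (hfl v) ⟨b, hb b hb'⟩,
        TableCert.ev_flat, TableCert.ev_flat, he]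
    have hmem : ∀ x ∈ tab3.els.map (evL (tab3.elem gT)), x ∈ U := by
      intro x hx
      obtain ⟨w, hw, rfl⟩ := List.mem_map.1 hx
      exact evL_mem fun k hk => Subgroup.subset_closure ⟨k, Nat.le_of_ble_eq_true (hlt w hw k hk), rfl⟩
    have hcard : Nat.card (Fin (tab3.els.map (evL (tab3.elem gT))).length) ≤ Nat.card U :=
      Nat.card_le_card_of_injective (fun i => ⟨_, hmem _ (List.getElem_mem i.2)⟩) fun i j hij =>
        Fin.ext (hnd.getElem_inj_iff.1 (Subtype.ext_iff.1 hij))
    rwa [Nat.card_fin, List.length_map, Nat.eq_of_beq_eq_true hlen] at hcard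

/-- The stabiliser of the base line. -/
noncomputable def St : Subgroup G43 := (MulAction.stabilizer (Equiv.Perm Ln) zF).comap theta

theorem mem_St {y : G43} : y ∈ St ↔ theta y zF = zF := Iff.rfl

theorem card_St : Nat.card St = 29160 := by
  letI : MulAction G43 Ln := MulAction.compHom Ln theta
  have := finite_G43
  have h := Nat.card_congr (MulAction.orbitProdStabilizerEquivGroup G43 zF)
  have horb : MulAction.orbit G43 zF = Set.univ := Set.eq_univ_of_forall fun p => by
    obtain ⟨w, hw, e⟩ := lines_transitive p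
    exact ⟨ev gT w, by show theta (ev gT w) zF = p; rw [theta_ev, e]⟩
  rw [Nat.card_prod, horb, Nat.card_coe_set_eq, Set.ncard_univ, Nat.card_fin, card_G43,
    show MulAction.stabilizer G43 zF = St from rfl, show actL.N = 112 from rfl] at h
  omega

theorem sub_facts : Act.lettersOk 3 tab3.ews = true ∧ actL.chkFix tab3.ews z0 = true := by
  have h := sub_ok
  simp only [chkSub, Bool.and_eq_true] at h
  tauto

theorem ews_mem {w : List ℕ} (hw : w ∈ tab3.ews) : ev gT w ∈ U := by
  obtain ⟨k, hk, rfl⟩ := List.getElem_of_mem hw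
  refine Subgroup.subset_closure ⟨k, ?_, ?_⟩
  · show k < tab3.P.n
    exact lt_of_lt_of_eq hk rfl
  · show ev gT (tab3.ews.getD k []) = _
    rw [List.getD_eq_getElem _ _ hk]

theorem U_le_St : U ≤ St := by
  refine (Subgroup.closure_le _).2 ?_
  rintro _ ⟨k, hk, rfl⟩
  have hk' : k < tab3.ews.length := hk
  have hm : tab3.ews.getD k [] ∈ tab3.ews := by
    rw [List.getD_eq_getElem _ _ hk']; exact List.getElem_mem _
  have hw := Act.lt_of_lettersOk sub_facts.1 hm
  refine mem_St.2 (Fin.ext ?_)
  show (theta (ev gT (tab3.ews.getD k [])) zF : ℕ) = _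
  rw [theta_ev, Lw_apply hw]
  exact Nat.eq_of_beq_eq_true (List.all_eq_true.1 sub_facts.2 _ hm)

/-- The lines of a list. -/
noncomputable def listSet (l : List ℕ) : Finset Ln := univ.filter fun q => (q : ℕ) ∈ l

/-- A subgroup of index 112 is conjugate to the stabiliser of the base line. -/
theorem exists_conj (S : Subgroup G43) (hS : Nat.card S = 29160) :
    ∃ g : G43, ∀ y, y ∈ S ↔ g * y * g⁻¹ ∈ St := by
  classical
  have := finite_G43
  have : Fact (Nat.Prime 3) := ⟨Nat.prime_three⟩
  obtain ⟨P, hP⟩ := (IsPGroup.of_card (n := 6) (p := 3) (by rw [card_U]; norm_num) : IsPGroup 3 U).exists_le_sylow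
  obtain ⟨Q, hQ⟩ := Sylow.exists_subgroup_card_pow_prime 3 (G := S) (n := 6) (by rw [hS]; norm_num)
  have hQ' : Nat.card (Q.map S.subtype) = 729 := by
    rw [← Nat.card_congr (Subgroup.equivMapOfInjective Q S.subtype S.subtype_injective).toEquiv, hQ]
    norm_num
  let Q1 : Sylow 3 G43 := Sylow.ofCard (Q.map S.subtype) (by
    rw [hQ', card_G43, show 3265920 = 3 ^ 6 * 4480 by norm_num,
      Nat.factorization_mul (by norm_num) (by norm_num), Finsupp.add_apply, Nat.Prime.factorization_pow Nat.prime_three,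
      Nat.factorization_eq_zero_of_not_dvd (show ¬ 3 ∣ 4480 by norm_num)]
    simp)
  obtain ⟨g, hg⟩ := MulAction.exists_smul_eq G43 Q1 P
  refine ⟨g, fun y => ?_⟩
  set S' : Subgroup G43 := S.map (MulAut.conj g).toMonoidHom with hS'
  have hmem : ∀ z, z ∈ S ↔ g * z * g⁻¹ ∈ S' := fun z =>
    ⟨fun hz => ⟨z, hz, rfl⟩, fun ⟨x, hx, e⟩ => by
      have e' : g * x * g⁻¹ = g * z * g⁻¹ := e
      rwa [mul_left_cancel (mul_right_cancel e')] at hx⟩
  suffices h : S' = St by rw [← h]; exact hmem y
  have hcS : Nat.card S' = 29160 := by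
    rw [← Nat.card_congr (Subgroup.equivMapOfInjective S _ (MulAut.conj g).injective).toEquiv, hS]
  have hUS : U ≤ S' := by
    intro u hu
    have h1 : u ∈ (g • Q1 : Sylow 3 G43) := hg.symm ▸ hP hu
    have h2 : u ∈ (Q.map S.subtype).map (MulAut.conj g).toMonoidHom := h1
    obtain ⟨x, ⟨q, -, rfl⟩, rfl⟩ := h2
    exact ⟨q, q.2, rfl⟩
  letI : MulAction G43 Ln := MulAction.compHom Ln theta
  let O : Finset Ln := univ.filter fun q => q ∈ MulAction.orbit S' zF
  have hcount : #O * Nat.card (MulAction.stabilizer S' zF) = 29160 := by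
    have h := Nat.card_congr (MulAction.orbitProdStabilizerEquivGroup S' zF)
    rw [Nat.card_prod, hcS] at h
    rw [← h, Nat.card_coe_set_eq, ← Set.ncard_coe_finset]
    congr 2
    ext q
    simp [O]
  have h729 : 729 ∣ Nat.card (MulAction.stabilizer S' zF) := by
    rw [← card_U]
    have : U.subgroupOf S' ≤ MulAction.stabilizer S' zF := fun u hu => mem_St.1 (U_le_St hu)
    have h := Subgroup.card_dvd_of_le this
    rwa [Nat.card_congr (Subgroup.subgroupOfEquivOfLe hUS).toEquiv] at h
  have h40 : #O ∣ 40 := by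
    obtain ⟨c, hc⟩ := h729
    exact ⟨c, by rw [hc] at hcount; nlinarith⟩
  have hinv : ∀ w ∈ tab3.ews, ∀ q, q ∈ O → Lw w q ∈ O := by
    intro w hw q hq
    simp only [O, mem_filter, mem_univ, true_and] at hq ⊢
    obtain ⟨s, rfl⟩ := hq
    refine ⟨⟨ev gT w, hUS (ews_mem hw)⟩ * s, ?_⟩
    show theta (ev gT w * (s : G43)) zF = Lw w (theta (s : G43) zF)
    rw [map_mul, theta_ev]; rfl
  have hinv' : ∀ w ∈ tab3.ews, ∀ q, Lw w q ∈ O → q ∈ O := by
    intro w hw q hq
    simp only [O, mem_filter, mem_univ, true_and] at hq ⊢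
    obtain ⟨s, hs⟩ := hq
    refine ⟨⟨ev gT w, hUS (ews_mem hw)⟩⁻¹ * s, ?_⟩
    show theta ((ev gT w)⁻¹ * (s : G43)) zF = q
    have hs' : theta (s : G43) zF = Lw w q := hs
    rw [map_mul, map_inv, theta_ev, Equiv.Perm.mul_apply, hs']
    exact (Lw w).symm_apply_apply q
  have hcls : ∀ {root : ℕ} {T : List (ℕ × ℕ × ℕ)}, connB actL tab3.ews T [root] = true → (hr : root < 112) →
      ∀ q : Ln, (q : ℕ) ∈ ptsOf root T → (q ∈ O ↔ (⟨root, hr⟩ : Ln) ∈ O) := by
    intro root T hT hr q hq
    obtain ⟨q', e, h⟩ := conn_pts (fun x => ∃ q' : Ln, (q' : ℕ) = x ∧ (q' ∈ O ↔ (⟨root, hr⟩ : Ln) ∈ O))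
      (fun w hw x ⟨q', e, h⟩ => ⟨Lw w q', by rw [Lw_apply (Act.lt_of_lettersOk sub_facts.1 hw), e],
        Iff.trans ⟨hinv' w hw q', hinv w hw q'⟩ h⟩) hT ⟨⟨root, hr⟩, rfl, Iff.rfl⟩ _ hq
    rwa [Fin.ext e] at h
  have hsub := sub_ok
  simp only [chkSub, Bool.and_eq_true] at hsub
  have hcov : ∀ q : Ln, q = zF ∨ (q : ℕ) ∈ ptsOf uRoot3 uTree3 ∨ (q : ℕ) ∈ ptsOf uRoot27 uTree27 ∨
      (q : ℕ) ∈ ptsOf uRoot81 uTree81 := fun q => by
    have h := List.all_eq_true.1 uCover_ok q (List.mem_range.2 q.2)
    simp only [Bool.or_eq_true] at h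
    rcases h with ((h | h) | h) | h
    · exact Or.inl (Fin.ext (Nat.eq_of_beq_eq_true h))
    · exact Or.inr (Or.inl (all_beq h))
    · exact Or.inr (Or.inr (Or.inl (all_beq h)))
    · exact Or.inr (Or.inr (Or.inr (all_beq h)))
  have hz : zF ∈ O := by simp [O]
  have h3 : connB actL tab3.ews uTree3 [uRoot3] = true := by tauto
  have h27 : connB actL tab3.ews uTree27 [uRoot27] = true := by tauto
  have h81 : connB actL tab3.ews uTree81 [uRoot81] = true := by tauto
  have a3 := hcls h3 (by decide)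
  have a27 := hcls h27 (by decide)
  have a81 := hcls h81 (by decide)
  by_cases b27 : (⟨uRoot27, by decide⟩ : Ln) ∈ O
  · exfalso
    have : insert zF (listSet (ptsOf uRoot27 uTree27)) ⊆ O := by
      intro q hq
      rcases mem_insert.1 hq with rfl | hq
      · exact hz
      · exact (a27 q (mem_filter.1 hq).2).2 b27
    have h1 := card_le_card this
    have h2 := Nat.le_of_dvd (by norm_num) h40
    have h28 : #(insert zF (listSet (ptsOf uRoot27 uTree27))) = 28 := by decide +kernel
    rw [h28] at h1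
    have h0 : #O = 40 := by
      obtain ⟨c, hc⟩ := h40
      have : c ≤ 1 := by nlinarith
      interval_cases c <;> omega
    -- forty is not a union of the classes
    by_cases b81 : (⟨uRoot81, by decide⟩ : Ln) ∈ O
    · have : listSet (ptsOf uRoot81 uTree81) ⊆ O := fun q hq => (a81 q (mem_filter.1 hq).2).2 b81
      have h3' := card_le_card this
      rw [show #(listSet (ptsOf uRoot81 uTree81)) = 81 by decide +kernel] at h3'
      omega
    · have : O ⊆ insert zF (listSet (ptsOf uRoot3 uTree3) ∪ listSet (ptsOf uRoot27 uTree27)) := by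
        intro q hq
        rcases hcov q with rfl | h | h | h
        · exact mem_insert_self _ _
        · exact mem_insert_of_mem (mem_union_left _ (mem_filter.2 ⟨mem_univ _, h⟩))
        · exact mem_insert_of_mem (mem_union_right _ (mem_filter.2 ⟨mem_univ _, h⟩))
        · exact absurd ((a81 q h).1 hq) b81
      have h3' := card_le_card this
      rw [show #(insert zF (listSet (ptsOf uRoot3 uTree3) ∪ listSet (ptsOf uRoot27 uTree27))) = 31 by
        decide +kernel] at h3'
      omega
  by_cases b81 : (⟨uRoot81, by decide⟩ : Ln) ∈ O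
  · exfalso
    have : listSet (ptsOf uRoot81 uTree81) ⊆ O := fun q hq => (a81 q (mem_filter.1 hq).2).2 b81
    have h3' := card_le_card this
    rw [show #(listSet (ptsOf uRoot81 uTree81)) = 81 by decide +kernel] at h3'
    have h2 := Nat.le_of_dvd (by norm_num) h40
    omega
  by_cases b3 : (⟨uRoot3, by decide⟩ : Ln) ∈ O
  · exfalso
    have hmove := move_ok
    simp only [chkMove, Bool.and_eq_true, List.all_eq_true, List.mem_range, Bool.or_eq_true] at hmove
    obtain ⟨⟨⟨⟨-, hlet⟩, hbc⟩, hbc'⟩, hdist⟩ := hmove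
    have hOeq : ∀ q : Ln, q ∈ O ↔ (q : ℕ) ∈ baseClique := by
      intro q
      constructor
      · intro hq
        have hqm : (q : ℕ) ∈ z0 :: ptsOf uRoot3 uTree3 := by
          rcases hcov q with rfl | h | h | h
          · exact List.mem_cons_self ..
          · exact List.mem_cons_of_mem _ h
          · exact absurd ((a27 q h).1 hq) b27
          · exact absurd ((a81 q h).1 hq) b81
        exact all_beq (hbc' _ hqm)
      · intro hq
        rcases (hbc _ hq).2 with h | h
        · rw [show q = zF from Fin.ext (Nat.eq_of_beq_eq_true h)]; exact hz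
        · exact (a3 q (all_beq h)).2 b3
    have hOfix : ∀ s ∈ S', O.image (theta s) = O := by
      intro s hs
      refine eq_of_subset_of_card_le ?_ (by rw [card_image_of_injective _ (theta s).injective])
      intro q hq
      obtain ⟨x, hx, rfl⟩ := mem_image.1 hq
      simp only [O, mem_filter, mem_univ, true_and] at hx ⊢
      obtain ⟨t, rfl⟩ := hx
      refine ⟨⟨s, hs⟩ * t, ?_⟩
      show theta (s * (t : G43)) zF = theta s (theta (t : G43) zF)
      rw [map_mul]; rfl
    let f : G43 ⧸ S' → Finset Ln := Quotient.lift (fun y => O.image (theta y)) fun x y hxy => by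
      have hxy' : x⁻¹ * y ∈ S' := QuotientGroup.leftRel_apply.1 hxy
      show O.image (theta x) = O.image (theta y)
      conv_lhs => rw [← hOfix _ hxy']
      rw [image_image]
      congr 1
      funext q
      show theta x (theta (x⁻¹ * y) q) = theta y q
      rw [← Equiv.Perm.mul_apply, ← map_mul, mul_inv_cancel_left]
    let g' : Fin 113 → G43 ⧸ S' := fun i => QuotientGroup.mk (ev gT (moveW.getD i []))
    have hlt : ∀ i : Fin 113, ∀ s ∈ moveW.getD i [], s < 3 := fun i s hs => by
      rcases Nat.lt_or_ge i.1 moveW.length with h | h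
      · rw [List.getD_eq_getElem _ _ h] at hs
        exact Act.lt_of_lettersOk hlet (List.getElem_mem h) s hs
      · rw [List.getD_eq_default _ _ h] at hs; simp at hs
    have hinj : Function.Injective (f ∘ g') := by
      intro i j e
      by_contra hne
      rcases hdist i i.2 j j.2 with h | h
      · exact hne (Fin.ext (Nat.eq_of_beq_eq_true h))
      obtain ⟨x, hx, h⟩ := List.any_eq_true.1 h
      simp only [force_eq, List.all_eq_true, Bool.not_eq_true'] at h
      have hx' : x < 112 := Nat.le_of_ble_eq_true (hbc x hx).1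
      have e' : O.image (theta (ev gT (moveW.getD i []))) = O.image (theta (ev gT (moveW.getD j []))) := e
      have hm : Lw (moveW.getD i []) ⟨x, hx'⟩ ∈ O.image (theta (ev gT (moveW.getD j []))) := by
        rw [← e', theta_ev]; exact mem_image_of_mem _ ((hOeq ⟨x, hx'⟩).2 hx)
      obtain ⟨y, hy, hy'⟩ := mem_image.1 hm
      rw [theta_ev] at hy'
      have h' := h y ((hOeq y).1 hy)
      have e2 := congrArg Fin.val hy'
      rw [Lw_apply (hlt j), Lw_apply (hlt i)] at e2
      rw [e2] at h'
      simp at h'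
    have hle := Nat.card_le_card_of_injective g' hinj.of_comp
    rw [Nat.card_fin, ← Subgroup.index_eq_card] at hle
    have hmul := S'.card_mul_index
    rw [hcS, card_G43] at hmul
    omega
  -- the base line is fixed
  refine Subgroup.eq_of_le_of_card_ge (fun s hs => mem_St.2 ?_) (by rw [card_St, hcS])
  have hq : theta s zF ∈ O := by
    simp only [O, mem_filter, mem_univ, true_and]
    exact ⟨⟨s, hs⟩, rfl⟩
  rcases hcov (theta s zF) with h | h | h | h
  · exact h
  · exact absurd ((a3 _ h).1 hq) b3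
  · exact absurd ((a27 _ h).1 hq) b27
  · exact absurd ((a81 _ h).1 hq) b81

/-- The thirty lines adjacent to the base line are forced. -/
theorem nbr_line (T : Finset Ln) (hinv : ∀ w ∈ stW, ∀ q, q ∈ T ↔ Lw w q ∈ T) (hz : zF ∉ T) (hc : #T = 30)
    (q : Ln) : q ∈ T ↔ AdjL zF q := by
  have h := sub_ok
  simp only [chkSub, Bool.and_eq_true, List.all_eq_true, List.mem_range, Bool.or_eq_true] at h
  have hl : Act.lettersOk 3 stW = true := by tauto
  have c30 : connB actL stW sTree30 [sRoot30] = true := by tauto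
  have c81 : connB actL stW sTree81 [sRoot81] = true := by tauto
  have hA : ∀ x ∈ ptsOf sRoot30 sTree30, adjLB z0 x = true := by tauto
  have hB : ∀ x ∈ ptsOf sRoot81 sTree81, (!adjLB z0 x) = true := by tauto
  have hcls : ∀ {root : ℕ} {Tr : List (ℕ × ℕ × ℕ)}, connB actL stW Tr [root] = true → (hr : root < 112) →
      ∀ p : Ln, (p : ℕ) ∈ ptsOf root Tr → (p ∈ T ↔ (⟨root, hr⟩ : Ln) ∈ T) := by
    intro root Tr hT hr p hp
    obtain ⟨q', e, h'⟩ := conn_pts (fun x => ∃ q' : Ln, (q' : ℕ) = x ∧ (q' ∈ T ↔ (⟨root, hr⟩ : Ln) ∈ T))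
      (fun w hw x ⟨q', e, h'⟩ => ⟨Lw w q', by rw [Lw_apply (Act.lt_of_lettersOk hl hw), e],
        (hinv w hw q').symm.trans h'⟩) hT ⟨⟨root, hr⟩, rfl, Iff.rfl⟩ _ hp
    rwa [Fin.ext e] at h'
  have hno : (⟨sRoot81, by decide⟩ : Ln) ∉ T := fun b => by
    have : listSet (ptsOf sRoot81 sTree81) ⊆ T := fun p hp => (hcls c81 _ p (mem_filter.1 hp).2).2 b
    have h3 := card_le_card this
    rw [show #(listSet (ptsOf sRoot81 sTree81)) = 81 by decide +kernel] at h3
    omega
  have hsub : T ⊆ listSet (ptsOf sRoot30 sTree30) := by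
    intro p hp
    rcases h.2 p p.2 with (h' | h') | h'
    · exact absurd hp (by rw [show p = zF from Fin.ext (Nat.eq_of_beq_eq_true h')]; exact hz)
    · exact mem_filter.2 ⟨mem_univ _, all_beq h'⟩
    · exact absurd ((hcls c81 _ p (all_beq h')).1 hp) hno
  have heq : T = listSet (ptsOf sRoot30 sTree30) :=
    eq_of_subset_of_card_le hsub (by rw [hc]; decide +kernel)
  constructor
  · exact fun hq => hA _ (mem_filter.1 (Finset.ext_iff.1 heq _ |>.1 hq)).2
  · intro hq
    rcases h.2 q q.2 with (h' | h') | h'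
    · rw [show q = zF from Fin.ext (Nat.eq_of_beq_eq_true h')] at hq
      exact absurd hq (adj_irrefl _)
    · rw [heq]; exact mem_filter.2 ⟨mem_univ _, all_beq h'⟩
    · have := hB _ (all_beq h')
      rw [show adjLB z0 (q : ℕ) = true from hq] at this
      simp at this

/-- The base far vertex. -/
noncomputable def jF : Fin 162 := ⟨hemiBase, by decide⟩

theorem farSub_facts : Act.lettersOk 3 sfW = true ∧ (∀ w ∈ sfW, Mw w (farF jF) = farF jF) ∧
    (∀ j, ∃ w : List ℕ, (∀ s ∈ w, s < 3) ∧ Mw w (farF jF) = farF j) := by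
  have h := farSub_ok
  simp only [chkFarSub, force_eq, Bool.and_eq_true, List.all_eq_true, List.mem_range] at h
  have hl : Act.lettersOk 3 sfW = true := by tauto
  refine ⟨hl, fun w hw => Fin.ext ?_, fun j => ?_⟩
  · rw [Mw_apply (Act.lt_of_lettersOk hl hw)]
    have hf : liftA.chkFix sfW (farT.at hemiBase) = true := by tauto
    exact Nat.eq_of_beq_eq_true (List.all_eq_true.1 hf w hw)
  · have hc : connB liftA genWords farTree [farT.at hemiBase] = true := by tauto
    have ha : ∀ j < 162, ((ptsOf (farT.at hemiBase) farTree).any fun x => Nat.beq x (farT.at j)) = true := by tauto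
    obtain ⟨w, hw, e⟩ := conn_pts (A := liftA) (W := genWords)
      (fun x => ∃ w : List ℕ, (∀ s ∈ w, s < 3) ∧ (Mw w (farF jF) : ℕ) = x) (fun v hv x ⟨w, hw, e⟩ => by
        have hv' : ∀ s ∈ v, s < 3 := by
          simp only [genWords, List.mem_cons, List.not_mem_nil, or_false] at hv
          rcases hv with rfl | rfl | rfl <;> simp
        refine ⟨v ++ w, fun s hs => (List.mem_append.1 hs).elim (hv' s) (hw s), ?_⟩
        rw [Mw_append, Equiv.Perm.mul_apply, Mw_apply hv', e])
      hc ⟨[], by simp, rfl⟩ _ (all_beq (ha j j.2))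
    exact ⟨w, hw, Fin.ext e⟩

/-- The far neighbours of the base far vertex are forced. -/
theorem nbr_far (T : Finset V) (hT : ∀ x ∈ T, ∃ j, x = farF j) (hinv : ∀ w ∈ sfW, ∀ x, x ∈ T ↔ Mw w x ∈ T)
    (hz : farF jF ∉ T) (hc : #T = 56) (j : Fin 162) : farF j ∈ T ↔ Adj (farF jF) (farF j) := by
  have h := farSub_ok
  simp only [chkFarSub, force_eq, Bool.and_eq_true, List.all_eq_true, List.mem_range, Bool.or_eq_true] at h
  have hl : Act.lettersOk 3 sfW = true := by tauto
  have c56 : connB liftA sfW fTree56 [fRoot56] = true := by tauto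
  have c105 : connB liftA sfW fTree105 [fRoot105] = true := by tauto
  have hA : ∀ x ∈ ptsOf fRoot56 fTree56, adjB (farT.at hemiBase) x = true := by tauto
  have hB : ∀ x ∈ ptsOf fRoot105 fTree105, (!adjB (farT.at hemiBase) x) = true := by tauto
  have hcls : ∀ {root : ℕ} {Tr : List (ℕ × ℕ × ℕ)}, connB liftA sfW Tr [root] = true → (hr : root < 275) →
      ∀ p : V, (p : ℕ) ∈ ptsOf root Tr → (p ∈ T ↔ (⟨root, hr⟩ : V) ∈ T) := by
    intro root Tr hT' hr p hp
    obtain ⟨q', e, h'⟩ := conn_pts (fun x => ∃ q' : V, (q' : ℕ) = x ∧ (q' ∈ T ↔ (⟨root, hr⟩ : V) ∈ T))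
      (fun w hw x ⟨q', e, h'⟩ => ⟨Mw w q', by rw [Mw_apply (Act.lt_of_lettersOk hl hw), e],
        (hinv w hw q').symm.trans h'⟩) hT' ⟨⟨root, hr⟩, rfl, Iff.rfl⟩ _ hp
    rwa [Fin.ext e] at h'
  let L : List ℕ → Finset V := fun l => univ.filter fun q => (q : ℕ) ∈ l
  have hno : (⟨fRoot105, by decide⟩ : V) ∉ T := fun b => by
    have : L (ptsOf fRoot105 fTree105) ⊆ T := fun p hp => (hcls c105 _ p (mem_filter.1 hp).2).2 b
    have h3 := card_le_card this
    rw [show #(L (ptsOf fRoot105 fTree105)) = 105 by decide +kernel] at h3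
    omega
  have hsub : T ⊆ L (ptsOf fRoot56 fTree56) := by
    intro p hp
    obtain ⟨i, rfl⟩ := hT p hp
    rcases h.2 i i.2 with (h' | h') | h'
    · exact absurd hp (by rw [show farF i = farF jF from Fin.ext (Nat.eq_of_beq_eq_true h')]; exact hz)
    · exact mem_filter.2 ⟨mem_univ _, all_beq h'⟩
    · exact absurd ((hcls c105 _ _ (all_beq h')).1 hp) hno
  have heq : T = L (ptsOf fRoot56 fTree56) := eq_of_subset_of_card_le hsub (by rw [hc]; decide +kernel)
  constructor
  · exact fun hq => hA _ (mem_filter.1 (Finset.ext_iff.1 heq _ |>.1 hq)).2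
  · intro hq
    rcases h.2 j j.2 with (h' | h') | h'
    · rw [show farF j = farF jF from Fin.ext (Nat.eq_of_beq_eq_true h')] at hq
      exact absurd hq (adj_irrefl _)
    · rw [heq]; exact mem_filter.2 ⟨mem_univ _, all_beq h'⟩
    · have := hB _ (all_beq h')
      rw [show adjB (farT.at hemiBase) (farT.at j) = true from hq] at this
      simp at this

end Cfsg.Agent.Spor.McLRec
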